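import Mathlib.RingTheory.Adjoin.Basic
import Mathlib.LinearAlgebra.Finsupp.LSum
import Mathlib.Algebra.MvPolynomial.Eval
import Mathlib.RingTheory.Ideal.Quotient.Operations
import Mathlib.LinearAlgebra.LinearIndependent.Lemmas
import Mathlib.LinearAlgebra.Finsupp.VectorSpace

/-!
# Adjoining a function with a simple pole

`χ` is a point of `Spec B` and `ψ` satisfies `ψ (g h) = g ψ h + χ h ψ g`; then there is an algebra with a new
element `x`, subject to `g x = χ g x + ψ g`, which is free on `B` and the positive powers of `x`.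
-/

set_option autoImplicit false

universe u

namespace Groth.Agent.CurveBasis15

open Finsupp

variable {R B : Type u} [CommRing R] [CommRing B] [Algebra R B] (χ : B →ₐ[R] R) (ψ : B →ₗ[R] B)

/-- Multiplication by the new element. -/
noncomputable def opT : Module.End R (B × (ℕ →₀ R)) :=
  LinearMap.coprod (LinearMap.prod ψ ((lsingle 0).comp χ.toLinearMap))
    ((LinearMap.inr R B (ℕ →₀ R)).comp (lmapDomain R R Nat.succ))

/-- Multiplication by an element of the old algebra. -/
noncomputable def opL (g : B) : Module.End R (B × (ℕ →₀ R)) :=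
  LinearMap.coprod ((LinearMap.inl R B (ℕ →₀ R)).comp (LinearMap.mulLeft R g))
    (Finsupp.linearCombination R fun k => (opT χ ψ ^ (k + 1)) ((g, 0) : B × (ℕ →₀ R)))

theorem opT_inl (b : B) : opT χ ψ (b, 0) = (ψ b, single 0 (χ b)) := by
  simp [opT]

theorem opT_inr (k : ℕ) (r : R) : opT χ ψ (0, single k r) = (0, single (k + 1) r) := by
  simp [opT]

theorem opL_inl (g b : B) : opL χ ψ g (b, 0) = (g * b, 0) := by
  simp [opL]

theorem opL_inr (g : B) (k : ℕ) (r : R) :
    opL χ ψ g (0, single k r) = r • (opT χ ψ ^ (k + 1)) (g, 0) := by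
  simp [opL]

theorem end_ext {φ φ' : Module.End R (B × (ℕ →₀ R))} (h1 : ∀ b, φ (b, 0) = φ' (b, 0))
    (h2 : ∀ k, φ (0, single k 1) = φ' (0, single k 1)) : φ = φ' :=
  LinearMap.prod_ext (LinearMap.ext h1) (Finsupp.lhom_ext fun k r => by
    have := congrArg (r • ·) (h2 k)
    simpa [← map_smul] using this)

variable (hψ : ∀ g h, ψ (g * h) = g * ψ h + χ h • ψ g)
include hψ

theorem psi_one : ψ 1 = 0 := by
  have := hψ 1 1
  rwa [mul_one, map_one χ, one_smul, one_mul, right_eq_add] at this

theorem opT_pow_one (k : ℕ) : (opT χ ψ ^ (k + 1)) (1, 0) = (0, single k 1) := by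
  induction k with
  | zero => rw [zero_add, pow_one, opT_inl, psi_one χ ψ hψ, map_one]
  | succ k ih => rw [pow_succ', Module.End.mul_apply, ih, opT_inr]

theorem commute_opT (g : B) : Commute (opT χ ψ) (opL χ ψ g) := by
  refine end_ext (fun b => ?_) fun k => ?_
  · rw [Module.End.mul_apply, Module.End.mul_apply, opL_inl, opT_inl, opT_inl,
      ← Prod.fst_add_snd (ψ b, single 0 (χ b)), map_add, opL_inl, opL_inr, zero_add, pow_one, opT_inl]
    refine Prod.ext ?_ ?_
    · simp only [Prod.fst_add, Prod.smul_fst]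
      exact hψ g b
    · simp only [Prod.snd_add, Prod.smul_snd, zero_add, Finsupp.smul_single, map_mul, smul_eq_mul, mul_comm (χ b)]
  · rw [Module.End.mul_apply, Module.End.mul_apply, opL_inr, opT_inr, opL_inr, one_smul, one_smul,
      pow_succ' (opT χ ψ) (k + 1), Module.End.mul_apply]

theorem commute_pow (g : B) (k : ℕ) : Commute (opT χ ψ ^ k) (opL χ ψ g) :=
  (commute_opT χ ψ hψ g).pow_left k

theorem opL_mul (g h : B) : opL χ ψ g * opL χ ψ h = opL χ ψ (g * h) := by
  refine end_ext (fun b => ?_) fun k => ?_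
  · rw [Module.End.mul_apply, opL_inl, opL_inl, opL_inl, mul_assoc]
  · rw [Module.End.mul_apply, opL_inr, opL_inr, one_smul, one_smul,
      ← Module.End.mul_apply, ← (commute_pow χ ψ hψ g (k + 1)).eq, Module.End.mul_apply, opL_inl]

theorem commute_opL (g h : B) : Commute (opL χ ψ g) (opL χ ψ h) := by
  rw [Commute, SemiconjBy, opL_mul χ ψ hψ, opL_mul χ ψ hψ, mul_comm]

/-- Operators commuting with everything are determined by their value at `(1, 0)`. -/
theorem eq_of_apply_one {φ φ' : Module.End R (B × (ℕ →₀ R))}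
    (hL : ∀ g, Commute φ (opL χ ψ g)) (hL' : ∀ g, Commute φ' (opL χ ψ g))
    (hT : Commute φ (opT χ ψ)) (hT' : Commute φ' (opT χ ψ)) (h : φ (1, 0) = φ' (1, 0)) : φ = φ' := by
  refine end_ext (fun b => ?_) fun k => ?_
  · rw [show ((b, 0) : B × (ℕ →₀ R)) = opL χ ψ b (1, 0) by rw [opL_inl, mul_one], ← Module.End.mul_apply,
      ← Module.End.mul_apply, (hL b).eq, (hL' b).eq, Module.End.mul_apply, Module.End.mul_apply, h]
  · rw [← opT_pow_one χ ψ hψ k, ← Module.End.mul_apply, ← Module.End.mul_apply, (hT.pow_right _).eq,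
      (hT'.pow_right _).eq, Module.End.mul_apply, Module.End.mul_apply, h]

theorem exists_adjoin_pole :
    ∃ (C : Type u) (_ : CommRing C) (_ : Algebra R C) (ι : B →ₐ[R] C) (x : C),
      (∀ g, ι g * x = χ g • x + ι (ψ g)) ∧
      ∀ {κ : Type} (f : κ → B), LinearIndependent R f →
        LinearIndependent R (Sum.elim (fun a => ι (f a)) fun k : ℕ => x ^ (k + 1)) := by
  let s : Set (Module.End R (B × (ℕ →₀ R))) := insert (opT χ ψ) (Set.range (opL χ ψ))
  have hs : ∀ a ∈ s, ∀ b ∈ s, Commute a b := by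
    rintro a (rfl | ⟨g, rfl⟩) b (rfl | ⟨h, rfl⟩)
    exacts [Commute.refl _, commute_opT χ ψ hψ h, (commute_opT χ ψ hψ g).symm, commute_opL χ ψ hψ g h]
  letI := Algebra.adjoinCommRingOfComm R (s := s) hs
  have hL1 : opL χ ψ 1 = 1 := end_ext (fun b => by simp [opL_inl]) fun k => by
    rw [opL_inr, one_smul, opT_pow_one χ ψ hψ, Module.End.one_apply]
  have hadd : ∀ g h, opL χ ψ (g + h) = opL χ ψ g + opL χ ψ h := fun g h =>
    end_ext (fun b => by simp [opL_inl, add_mul]) fun k => by
      rw [LinearMap.add_apply, opL_inr, opL_inr, opL_inr, ← smul_add, ← map_add, Prod.mk_add_mk, add_zero]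
  have hsmul : ∀ (r : R) (g : B), opL χ ψ (r • g) = r • opL χ ψ g := fun r g =>
    end_ext (fun b => by simp [opL_inl]) fun k => by
      rw [LinearMap.smul_apply, opL_inr, opL_inr, one_smul, one_smul, ← map_smul, Prod.smul_mk, smul_zero]
  let ι : B →ₐ[R] Algebra.adjoin R s :=
    AlgHom.ofLinearMap
      { toFun := fun g => ⟨opL χ ψ g, Algebra.subset_adjoin (Or.inr ⟨g, rfl⟩)⟩
        map_add' := fun g h => Subtype.ext (hadd g h)
        map_smul' := fun r g => Subtype.ext (hsmul r g) }
      (Subtype.ext hL1) (fun g h => Subtype.ext (opL_mul χ ψ hψ g h).symm)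
  let x : Algebra.adjoin R s := ⟨opT χ ψ, Algebra.subset_adjoin (Or.inl rfl)⟩
  refine ⟨Algebra.adjoin R s, inferInstance, inferInstance, ι, x, fun g => Subtype.ext ?_, fun f hf => ?_⟩
  · change opL χ ψ g * opT χ ψ = χ g • opT χ ψ + opL χ ψ (ψ g)
    refine eq_of_apply_one χ ψ hψ (fun h => ((commute_opL χ ψ hψ g h).mul_left (commute_opT χ ψ hψ h)))
      (fun h => ((commute_opT χ ψ hψ h).smul_left _).add_left (commute_opL χ ψ hψ _ h))
      ((commute_opT χ ψ hψ g).symm.mul_left (Commute.refl _))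
      (((Commute.refl _).smul_left _).add_left (commute_opT χ ψ hψ _).symm) ?_
    rw [(commute_opT χ ψ hψ g).symm.eq, Module.End.mul_apply, opL_inl, mul_one, opT_inl, LinearMap.add_apply,
      LinearMap.smul_apply, opT_inl, psi_one χ ψ hψ, map_one, opL_inl, mul_one]
    simp
  · refine LinearIndependent.of_comp
      ((LinearMap.applyₗ ((1, 0) : B × (ℕ →₀ R))).comp (Algebra.adjoin R s).val.toLinearMap) ?_
    have := linearIndependent_inl_union_inr' hf (Finsupp.basisSingleOne (R := R) (ι := ℕ)).linearIndependent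
    convert this using 1
    funext o
    rcases o with a | k
    · change opL χ ψ (f a) (1, 0) = _
      rw [opL_inl, mul_one]; rfl
    · refine Eq.trans ?_ (opT_pow_one χ ψ hψ k |>.trans (by simp))
      rfl

end Groth.Agent.CurveBasis15
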