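import Groth.Agent.Lib.CurveBasis15.Adjoin
import Mathlib.RingTheory.Adjoin.Basic
import Mathlib.Algebra.MvPolynomial.CommRing
import Mathlib.Tactic.LinearCombination

/-!
# Adjoining a pole to an algebra given by generators and relations
-/

set_option autoImplicit false

universe u

namespace Groth.Agent.CurveBasis15

open MvPolynomial

variable {R : Type u} [CommRing R]

theorem exists_pole {σ : Type} (G : Set (MvPolynomial σ R)) (χ₀ : σ → R)
    (ψ₀ : σ → MvPolynomial σ R ⧸ Ideal.span G)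
    (hcomm : ∀ v w, (Ideal.Quotient.mkₐ R (Ideal.span G) (X v) - algebraMap R _ (χ₀ v)) * ψ₀ w =
      (Ideal.Quotient.mkₐ R (Ideal.span G) (X w) - algebraMap R _ (χ₀ w)) * ψ₀ v)
    (hχ : ∀ ρ ∈ G, eval χ₀ ρ = 0)
    (hψ : ∀ Ψ : MvPolynomial σ R →ₗ[R] MvPolynomial σ R ⧸ Ideal.span G,
      (∀ g h, Ψ (g * h) = Ideal.Quotient.mkₐ R (Ideal.span G) g * Ψ h + eval χ₀ h • Ψ g) →
      (∀ v, Ψ (X v) = ψ₀ v) → (∀ r, Ψ (C r) = 0) → ∀ ρ ∈ G, Ψ ρ = 0) :
    ∃ (C : Type u) (_ : CommRing C) (_ : Algebra R C) (ι : MvPolynomial σ R ⧸ Ideal.span G →ₐ[R] C) (x : C),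
      (∀ v, ι (Ideal.Quotient.mkₐ R (Ideal.span G) (X v)) * x = χ₀ v • x + ι (ψ₀ v)) ∧
      ∀ {κ : Type} (f : κ → MvPolynomial σ R ⧸ Ideal.span G), LinearIndependent R f →
        LinearIndependent R (Sum.elim (fun a => ι (f a)) fun k : ℕ => x ^ (k + 1)) := by
  let π := Ideal.Quotient.mkₐ R (Ideal.span G)
  let op : σ → Module.End R ((MvPolynomial σ R ⧸ Ideal.span G) × R) := fun v =>
    LinearMap.coprod ((LinearMap.inl R _ R).comp (LinearMap.mulLeft R (π (X v))))
      (LinearMap.prod (LinearMap.toSpanSingleton R _ (ψ₀ v)) (LinearMap.toSpanSingleton R R (χ₀ v)))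
  have op_apply : ∀ v b r, op v (b, r) = (π (X v) * b + r • ψ₀ v, r * χ₀ v) := fun v b r => by
    simp [op, smul_eq_mul]
  have hop : ∀ a ∈ Set.range op, ∀ b ∈ Set.range op, a * b = b * a := by
    rintro _ ⟨v, rfl⟩ _ ⟨w, rfl⟩
    refine LinearMap.ext fun ⟨b, r⟩ => ?_
    rw [Module.End.mul_apply, Module.End.mul_apply, op_apply, op_apply, op_apply, op_apply]
    refine Prod.ext ?_ (by ring)
    change π (X v) * (π (X w) * b + r • ψ₀ w) + (r * χ₀ w) • ψ₀ v =
      π (X w) * (π (X v) * b + r • ψ₀ v) + (r * χ₀ v) • ψ₀ w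
    rw [mul_add, mul_add, mul_smul_comm, mul_smul_comm, mul_left_comm (π (X v)), mul_smul, mul_smul,
      add_assoc, add_assoc, ← smul_add, ← smul_add]
    congr 2
    have h := hcomm v w
    rw [sub_mul, sub_mul, ← Algebra.smul_def, ← Algebra.smul_def, sub_eq_sub_iff_add_eq_add] at h
    exact h
  letI := Algebra.adjoinCommRingOfComm R hop
  let φ : MvPolynomial σ R →ₐ[R] Algebra.adjoin R (Set.range op) :=
    aeval fun v => ⟨op v, Algebra.subset_adjoin ⟨v, rfl⟩⟩
  let Ψ : MvPolynomial σ R →ₗ[R] MvPolynomial σ R ⧸ Ideal.span G :=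
    ((LinearMap.fst R _ R).comp (LinearMap.applyₗ ((0, 1) : _ × R))).comp
      ((Algebra.adjoin R (Set.range op)).val.toLinearMap.comp φ.toLinearMap)
  have key : ∀ g : MvPolynomial σ R, ∀ b r, ((φ g).1 : Module.End R _) (b, r) =
      (π g * b + r • Ψ g, r * eval χ₀ g) := by
    intro g
    induction g using MvPolynomial.induction_on with
    | C a =>
      intro b r
      have e : ∀ z, ((φ (C a)).1 : Module.End R _) z = a • z := fun z => by
        rw [show φ (C a) = algebraMap R _ a from (φ.commutes a)]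
        rfl
      have h0 : Ψ (C a) = 0 := by
        change (((φ (C a)).1 : Module.End R _) (0, 1)).1 = 0
        rw [e]; simp
      rw [e, h0, eval_C, smul_zero, add_zero, Prod.smul_mk, smul_eq_mul, mul_comm r,
        show π (C a) = algebraMap R _ a from π.commutes a, ← Algebra.smul_def]
    | add p q hp hq =>
      intro b r
      rw [map_add, map_add, map_add, map_add]
      change ((φ p).1 + (φ q).1 : Module.End R _) (b, r) = _
      rw [LinearMap.add_apply, hp, hq, Prod.mk_add_mk, smul_add, add_mul, mul_add]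
      congr 1
      abel
    | mul_X p v hp =>
      intro b r
      have e : ∀ z, ((φ (p * X v)).1 : Module.End R _) z = ((φ p).1 : Module.End R _) (op v z) := fun z => by
        rw [map_mul, show φ (X v) = ⟨op v, Algebra.subset_adjoin ⟨v, rfl⟩⟩ from aeval_X _ v]
        rfl
      have h0 : Ψ (p * X v) = π p * ψ₀ v + χ₀ v • Ψ p := by
        change (((φ (p * X v)).1 : Module.End R _) (0, 1)).1 = _
        rw [e, op_apply, hp]
        simp
      rw [e, op_apply, hp, h0, map_mul, map_mul, eval_X]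
      refine Prod.ext ?_ (by ring)
      dsimp only
      rw [mul_add, mul_smul_comm, smul_add, mul_smul, mul_assoc, add_assoc]
  have hmul : ∀ g h, Ψ (g * h) = π g * Ψ h + eval χ₀ h • Ψ g := fun g h => by
    have h0 : ∀ z, ((φ (g * h)).1 : Module.End R _) z = ((φ g).1 : Module.End R _) ((φ h).1 z) := fun z => by
      rw [map_mul]; rfl
    change (((φ (g * h)).1 : Module.End R _) (0, 1)).1 = _
    rw [h0, key h, key g]
    simp
  have hX : ∀ v, Ψ (X v) = ψ₀ v := fun v => by
    change (((φ (X v)).1 : Module.End R _) (0, 1)).1 = _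
    rw [show φ (X v) = ⟨op v, Algebra.subset_adjoin ⟨v, rfl⟩⟩ from aeval_X _ v, op_apply]
    simp
  have hC : ∀ r, Ψ (C r) = 0 := fun r => by
    have h1 : Ψ 1 = 0 := by
      have := hmul 1 1
      rwa [mul_one, map_one π, one_mul, map_one (eval χ₀), one_smul, right_eq_add] at this
    rw [← mul_one (C r), ← smul_eq_C_mul, map_smul, h1, smul_zero]
  have hker : ∀ ρ ∈ Ideal.span G, Ψ ρ = 0 ∧ eval χ₀ ρ = 0 := by
    intro ρ hρ
    induction hρ using Submodule.span_induction with
    | mem x hx => exact ⟨hψ Ψ hmul hX hC x hx, hχ x hx⟩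
    | zero => exact ⟨map_zero _, map_zero _⟩
    | add x y _ _ hx hy => exact ⟨by rw [map_add, hx.1, hy.1, add_zero], by rw [map_add, hx.2, hy.2, add_zero]⟩
    | smul a x _ hx => exact ⟨by rw [smul_eq_mul, hmul, hx.1, hx.2, mul_zero, zero_smul, add_zero],
        by rw [smul_eq_mul, map_mul, hx.2, mul_zero]⟩
  let χ : MvPolynomial σ R ⧸ Ideal.span G →ₐ[R] R :=
    Ideal.Quotient.liftₐ _ (aeval χ₀) fun a ha => (aeval_eq_eval χ₀ ▸ (hker a ha).2)
  let ψ : MvPolynomial σ R ⧸ Ideal.span G →ₗ[R] MvPolynomial σ R ⧸ Ideal.span G :=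
    { toFun := fun q => Quotient.liftOn' q Ψ fun a b hab => sub_eq_zero.1 (by
        rw [← map_sub]
        exact (hker _ ((Submodule.quotientRel_def _).1 hab)).1)
      map_add' := fun x y => by
        obtain ⟨x, rfl⟩ := Ideal.Quotient.mk_surjective x
        obtain ⟨y, rfl⟩ := Ideal.Quotient.mk_surjective y
        exact map_add Ψ x y
      map_smul' := fun r x => by
        obtain ⟨x, rfl⟩ := Ideal.Quotient.mk_surjective x
        exact map_smul Ψ r x }
  have hψmul : ∀ g h, ψ (g * h) = g * ψ h + χ h • ψ g := fun g h => by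
    obtain ⟨g, rfl⟩ := Ideal.Quotient.mk_surjective g
    obtain ⟨h, rfl⟩ := Ideal.Quotient.mk_surjective h
    change Ψ (g * h) = π g * Ψ h + (aeval χ₀ h) • Ψ g
    rw [hmul, aeval_eq_eval]
  obtain ⟨C', _, _, ι, x, h1, h2⟩ := exists_adjoin_pole χ ψ hψmul
  refine ⟨C', inferInstance, inferInstance, ι, x, fun v => ?_, h2⟩
  rw [h1]
  change (aeval χ₀ (X v)) • x + ι (Ψ (X v)) = _
  rw [aeval_X, hX]

end Groth.Agent.CurveBasis15
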