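import Groth.Agent.Lib.CurveBasis15.Defs
import Groth.Agent.Lib.CurveBasis15.Pole
import Mathlib.RingTheory.AdjoinRoot
import Mathlib.Algebra.Polynomial.Basis
import Mathlib.RingTheory.AlgebraTower
import Mathlib.Tactic.ComputeDegree

/-!
# The plane cubic is free on the standard monomials
-/

set_option autoImplicit false

universe u

namespace Groth.Agent.CurveBasis15

open W4c5m1nsnscurves

variable {R : Type u} [CommRing R] {m : ℕ}

/-- Independence of `T^k` and `T^k W` modulo a monic quadratic in `W`. -/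
theorem linearIndependent_double_cover (a c d e₀ : R) :
    LinearIndependent R fun kj : ℕ × Fin 2 =>
      Ideal.Quotient.mkₐ R (Ideal.span {(MvPolynomial.X 1 * MvPolynomial.X 1
        - (MvPolynomial.X 0 * MvPolynomial.X 0 + MvPolynomial.C a * MvPolynomial.X 0 + MvPolynomial.C c) * MvPolynomial.X 1
        - MvPolynomial.C d * (MvPolynomial.X 0 * MvPolynomial.X 0) - MvPolynomial.C e₀ * MvPolynomial.X 0 :
          MvPolynomial (Fin 2) R)}) (MvPolynomial.X 0 ^ kj.1 * MvPolynomial.X 1 ^ (kj.2 : ℕ)) := by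
  nontriviality R
  open Polynomial in
  let f : R[X][X] := X ^ 2 - C (X * X + C a * X + C c) * X - C (C d * (X * X) + C e₀ * X)
  have hf : f.Monic := by simp only [f]; monicity!
  have hdeg : f.natDegree = 2 := by simp only [f]; compute_degree!
  let pb := AdjoinRoot.powerBasis' hf
  have hpb : pb.dim = 2 := hdeg
  let img : Fin 2 → AdjoinRoot f := ![AdjoinRoot.of f Polynomial.X, AdjoinRoot.root f]
  let g : MvPolynomial (Fin 2) R →ₐ[R] AdjoinRoot f := MvPolynomial.aeval img
  have hC : ∀ r, g (MvPolynomial.C r) = AdjoinRoot.of f (Polynomial.C r) := fun r => g.commutes r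
  have h0 : g (MvPolynomial.X 0) = AdjoinRoot.of f Polynomial.X := MvPolynomial.aeval_X img 0
  have h1 : g (MvPolynomial.X 1) = AdjoinRoot.root f := MvPolynomial.aeval_X img 1
  have hr : AdjoinRoot.mk f f = 0 := AdjoinRoot.mk_self
  let q : MvPolynomial (Fin 2) R ⧸ Ideal.span {(MvPolynomial.X 1 * MvPolynomial.X 1
        - (MvPolynomial.X 0 * MvPolynomial.X 0 + MvPolynomial.C a * MvPolynomial.X 0 + MvPolynomial.C c) * MvPolynomial.X 1
        - MvPolynomial.C d * (MvPolynomial.X 0 * MvPolynomial.X 0) - MvPolynomial.C e₀ * MvPolynomial.X 0 :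
          MvPolynomial (Fin 2) R)} →ₐ[R] AdjoinRoot f :=
    Ideal.Quotient.liftₐ _ g fun p hp => by
      obtain ⟨t, rfl⟩ := Ideal.mem_span_singleton'.1 hp
      rw [map_mul]
      refine mul_eq_zero_of_right _ ?_
      simp only [map_sub, map_add, map_mul, hC, h0, h1]
      simp only [f, map_sub, map_add, map_mul, map_pow, AdjoinRoot.mk_X, AdjoinRoot.mk_C] at hr
      linear_combination hr
  refine LinearIndependent.of_comp q.toLinearMap ?_
  have hb := ((Polynomial.basisMonomials R).smulTower pb.basis).linearIndependent.comp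
    (fun kj : ℕ × Fin 2 => (kj.1, Fin.cast hpb.symm kj.2)) (fun x y h => by
      obtain ⟨h1, h2⟩ := Prod.mk.injEq .. ▸ h
      exact Prod.ext h1 (Fin.cast_injective _ h2))
  convert hb using 1
  funext kj
  rw [Function.comp_apply, Function.comp_apply, Module.Basis.smulTower_apply, Polynomial.coe_basisMonomials,
    pb.basis_eq_pow, Algebra.smul_def]
  change g (MvPolynomial.X 0 ^ kj.1 * MvPolynomial.X 1 ^ (kj.2 : ℕ)) = _
  rw [map_mul, map_pow, map_pow, h0, h1, ← map_pow, ← Polynomial.monomial_one_right_eq_X_pow]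
  rfl

theorem indep_empty (v : UGen m → R) (e₀ : R) : Indep v e₀ ∅ := by
  let P : MvPolynomial (Fin 2) R := MvPolynomial.X 1 * MvPolynomial.X 1
        - (MvPolynomial.X 0 * MvPolynomial.X 0 + MvPolynomial.C (v .a) * MvPolynomial.X 0 + MvPolynomial.C (v .c)) * MvPolynomial.X 1
        - MvPolynomial.C (v .cb - v .c) * (MvPolynomial.X 0 * MvPolynomial.X 0) - MvPolynomial.C e₀ * MvPolynomial.X 0
  let π := Ideal.Quotient.mkₐ R (Ideal.span {P})
  let t := π (MvPolynomial.X 0)
  let w := π (MvPolynomial.X 1)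
  have hC : ∀ r, π (MvPolynomial.C r) = algebraMap R _ r := π.commutes
  have hP : w * w - (t * t + algebraMap R _ (v .a) * t + algebraMap R _ (v .c)) * w
      - algebraMap R _ (v .cb - v .c) * (t * t) - algebraMap R _ e₀ * t = 0 := by
    have := Ideal.Quotient.eq_zero_iff_mem.2 (Ideal.subset_span (Set.mem_singleton P))
    change π P = 0 at this
    simpa only [P, map_sub, map_add, map_mul, hC] using this
  let ψw := t * w + algebraMap R _ (v .a) * w + algebraMap R _ (v .cb - v .c) * t + algebraMap R _ e₀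
  obtain ⟨C', _, _, ι, x, hx, hli⟩ := exists_pole {P} ![0, v .c] ![w, ψw]
    (fun i j => by
      fin_cases i <;> fin_cases j
      · rfl
      · change (t - algebraMap R _ 0) * ψw = (w - algebraMap R _ (v .c)) * w
        rw [map_zero, sub_zero]
        exact base_commute hP
      · change (w - algebraMap R _ (v .c)) * w = (t - algebraMap R _ 0) * ψw
        rw [map_zero, sub_zero]
        exact (base_commute hP).symm
      · rfl)
    (by rintro ρ rfl; simp [P])
    (fun Ψ hmul hX hΨC ρ hρ => by
      obtain rfl := hρ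
      change Ψ (MvPolynomial.X 1 * MvPolynomial.X 1
        - (MvPolynomial.X 0 * MvPolynomial.X 0 + MvPolynomial.C (v .a) * MvPolynomial.X 0 + MvPolynomial.C (v .c)) * MvPolynomial.X 1
        - MvPolynomial.C (v .cb - v .c) * (MvPolynomial.X 0 * MvPolynomial.X 0) - MvPolynomial.C e₀ * MvPolynomial.X 0) = 0
      simp only [map_sub, map_add, hmul, hX, hΨC, map_mul, MvPolynomial.eval_X, MvPolynomial.eval_C,
        Matrix.cons_val_zero, Matrix.cons_val_one]
      have hsm : ∀ (r : R) (z : MvPolynomial (Fin 2) R ⧸ Ideal.span {P}), r • z = algebraMap R _ r * z :=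
        fun r z => Algebra.smul_def r z
      simp only [hsm, map_zero, map_mul, map_add, mul_zero, zero_mul, add_zero, zero_add]
      simp only [show ∀ z, Ideal.Quotient.mkₐ R (Ideal.span {P}) z = π z from fun _ => rfl, hC]
      linear_combination (norm := (simp only [t, w, ψw, map_sub]; ring)) (t + algebraMap R _ (v .a)) * hP)
  have ht : ι t * x = ι w := (hx 0).trans (by rw [Matrix.cons_val_zero, Matrix.cons_val_zero, zero_smul, zero_add])
  have hw : ι w * x = algebraMap R C' (v .c) * x + ι ψw :=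
    (hx 1).trans (by rw [Matrix.cons_val_one, Matrix.cons_val_one, Algebra.smul_def]; rfl)
  let img : CVar m → C' := fun y => match y with
    | .x2 => ι t
    | .x3 => x
    | .xi _ => 0
  have hsol : Sol v e₀ ∅ img := by
    refine ⟨?_, ?_, ?_, ?_, fun i _ => rfl⟩
    · simp only [Ec, img]
      have h1 : ι ψw = ι t * ι w + algebraMap R C' (v .a) * ι w + algebraMap R C' (v .cb - v .c) * ι t
          + algebraMap R C' e₀ := by simp only [ψw, map_add, map_mul, AlgHom.commutes]
      linear_combination hw + (x - ι t - algebraMap R C' (v .a)) * ht + h1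
    all_goals exact fun i hi => absurd hi (Finset.notMem_empty i)
  refine indep_of_sol v e₀ ∅ hsol ?_
  let g : {o : Option (ℕ ⊕ (CVar m × ℕ)) // Ok ∅ o} → (ℕ × Fin 2) ⊕ ℕ := fun o => match o.1 with
    | none => Sum.inl (0, 0)
    | some (Sum.inl k) => Sum.inl (k, 1)
    | some (Sum.inr (.x2, k)) => Sum.inl (k + 1, 0)
    | some (Sum.inr (.x3, k)) => Sum.inr k
    | some (Sum.inr (.xi _, k)) => Sum.inr k
  have hg : Function.Injective g := by
    rintro ⟨o, ho⟩ ⟨o', ho'⟩ h
    rcases o with _ | (k | ⟨_ | _ | i, k⟩) <;> rcases o' with _ | (l | ⟨_ | _ | j, l⟩) <;>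
      first | exact absurd ho (Finset.notMem_empty _) | exact absurd ho' (Finset.notMem_empty _) | simp_all [g, Ok]
  convert (hli _ (linearIndependent_double_cover (v .a) (v .c) (v .cb - v .c) e₀)).comp g hg using 1
  funext ⟨o, ho⟩
  rcases o with _ | (k | ⟨_ | _ | i, k⟩)
  · simp [g, mon, t, w, π]
  · change ι t ^ (k + 1) * x = ι (π (MvPolynomial.X 0 ^ k * MvPolynomial.X 1 ^ 1))
    rw [pow_one, map_mul, map_mul, map_pow, map_pow, pow_succ, mul_assoc, ht]
  · change ι t ^ (k + 1) = ι (π (MvPolynomial.X 0 ^ (k + 1) * MvPolynomial.X 1 ^ 0))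
    rw [pow_zero, mul_one, map_pow, map_pow]
  · rfl
  · exact absurd ho (Finset.notMem_empty i)

end Groth.Agent.CurveBasis15
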