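import Groth.Agent.Lib.CurveBasis15.Identities
import Groth.Prelude.Def_W4c5m1nsnscurvesC

/-!
# The parameters, monomials and relations of the curves
-/

set_option autoImplicit false

universe u

namespace Groth.Agent.CurveBasis15

open MvPolynomial W4c5m1nsnscurves

variable {R : Type u} [CommRing R] {m : ℕ}

/-- The parameters satisfy the relations of `U_n`. -/
structure Good (v : UGen m → R) : Prop where
  hL : ∀ i j (h : i ≠ j), L (v .a) (v (.ci i)) (v (.cbi i)) (v (.ci j)) (v (.cbi j))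
    (v (.cij i j h)) (v (.cij j i h.symm)) = 0
  hQ : ∀ i j (h : i ≠ j), Q (v .c) (v (.ci i)) (v (.ci j)) (v (.cij i j h)) (v (.cij j i h.symm)) = 0
  hB : ∀ i j (h : i ≠ j), Bq (v .c) (v .cb - v .c) (v (.cbi i)) (v (.cbi j))
    (v (.cij i j h)) (v (.cij j i h.symm)) = 0
  hT : ∀ i j k (hij : i ≠ j) (hjk : j ≠ k) (hik : i ≠ k), T (v .a) (v .c) (v (.ci k)) (v (.cbi k))
    (v (.cij i j hij)) (v (.cij j i hij.symm)) (v (.cij j k hjk)) (v (.cij i k hik)) = 0

theorem good_iff (v : UGen m → R) : Good v ↔ ∀ p ∈ URel R m, eval v p = 0 := by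
  constructor
  · rintro h p (((⟨q, rfl⟩ | ⟨q, rfl⟩) | ⟨q, rfl⟩) | ⟨q, rfl⟩)
    · have := h.hL q.1.1 q.1.2 q.2
      simp only [map_sub, map_add, map_mul, eval_X, L] at this ⊢
      linear_combination this
    · have := h.hQ q.1.1 q.1.2 q.2
      simp only [map_sub, map_add, map_mul, eval_X, Q] at this ⊢
      linear_combination this
    · have := h.hB q.1.1 q.1.2 q.2
      simp only [map_sub, map_add, map_mul, eval_X, Bq] at this ⊢
      linear_combination this
    · have := h.hT q.1.1 q.1.2.1 q.1.2.2 q.2.1 q.2.2.1 q.2.2.2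
      simp only [map_sub, map_add, map_mul, eval_X, T, s] at this ⊢
      linear_combination this
  · intro h
    refine ⟨fun i j hij => ?_, fun i j hij => ?_, fun i j hij => ?_, fun i j k hij hjk hik => ?_⟩
    · have := h _ (Or.inl (Or.inl (Or.inl ⟨⟨(i, j), hij⟩, rfl⟩)))
      simp only [map_sub, map_add, map_mul, eval_X, L] at this ⊢
      linear_combination this
    · have := h _ (Or.inl (Or.inl (Or.inr ⟨⟨(i, j), hij⟩, rfl⟩)))
      simp only [map_sub, map_add, map_mul, eval_X, Q] at this ⊢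
      linear_combination this
    · have := h _ (Or.inl (Or.inr ⟨⟨(i, j), hij⟩, rfl⟩))
      simp only [map_sub, map_add, map_mul, eval_X, Bq] at this ⊢
      linear_combination this
    · have := h _ (Or.inr ⟨⟨(i, j, k), hij, hjk, hik⟩, rfl⟩)
      simp only [map_sub, map_add, map_mul, eval_X, T, s] at this ⊢
      linear_combination this

/-- The monomials of `cmon` in any family of elements. -/
def mon {B : Type*} [Monoid B] (x : CVar m → B) : Option (ℕ ⊕ (CVar m × ℕ)) → B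
  | none => 1
  | some (Sum.inl k) => x .x2 ^ (k + 1) * x .x3
  | some (Sum.inr (y, k)) => x y ^ (k + 1)

theorem cmon_eq (v : UGen m → R) :
    cmon R m v = mon fun y => Ideal.Quotient.mkₐ R (Ideal.span (CRel R m v)) (X y) := by
  funext o
  rcases o with _ | (k | ⟨y, k⟩) <;> simp [cmon, mon]

theorem map_mon {B C : Type*} [Monoid B] [Monoid C] {F : Type*} [FunLike F B C] [MonoidHomClass F B C] (f : F)
    (x : CVar m → B) (o : Option (ℕ ⊕ (CVar m × ℕ))) : f (mon x o) = mon (fun y => f (x y)) o := by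
  rcases o with _ | (k | ⟨y, k⟩) <;> simp [mon]

section

variable {B : Type*} [CommRing B] [Algebra R B]

local notation "K" => algebraMap R B

/-- A family of elements satisfying the relations of the curve attached to the poles in `S`. -/
structure Sol (v : UGen m → R) (e₀ : R) (S : Finset (Fin m)) (x : CVar m → B) : Prop where
  hc : Ec (K (v .a)) (K (v .c)) (K (v .cb - v .c)) (x .x2) (x .x3) (K e₀) = 0
  h2 : ∀ i ∈ S, E2 (K (v .c)) (x .x2) (x .x3) (x (.xi i)) (K (v (.ci i))) (K (v (.cbi i))) = 0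
  h3 : ∀ i ∈ S, E3 (K (v .a)) (K (v .cb - v .c)) (x .x2) (x .x3) (x (.xi i)) (K (v (.ci i))) (K (v (.cbi i))) = 0
  hxy : ∀ i ∈ S, ∀ j ∈ S, ∀ h : i ≠ j, Exy (K (v .c)) (x .x2) (x .x3) (x (.xi i)) (x (.xi j))
    (K (v (.cij i j h))) (K (v (.cij j i h.symm))) = 0
  h0 : ∀ i ∉ S, x (.xi i) = 0

end

/-- The relations of the curve attached to the poles in `S`. -/
def relSet (v : UGen m → R) (e₀ : R) (S : Finset (Fin m)) : Set (MvPolynomial (CVar m) R) :=
  {Ec (C (v .a)) (C (v .c)) (C (v .cb - v .c)) (X .x2) (X .x3) (C e₀)} ∪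
  Set.range (fun i : S => E2 (C (v .c)) (X .x2) (X .x3) (X (.xi i.1)) (C (v (.ci i.1))) (C (v (.cbi i.1)))) ∪
  Set.range (fun i : S => E3 (C (v .a)) (C (v .cb - v .c)) (X .x2) (X .x3) (X (.xi i.1))
    (C (v (.ci i.1))) (C (v (.cbi i.1)))) ∪
  Set.range (fun q : {q : DPair m // q.1.1 ∈ S ∧ q.1.2 ∈ S} => Exy (C (v .c)) (X .x2) (X .x3) (X (.xi q.1.1.1))
    (X (.xi q.1.1.2)) (C (v (.cij q.1.1.1 q.1.1.2 q.1.2))) (C (v (.cij q.1.1.2 q.1.1.1 (Ne.symm q.1.2))))) ∪
  Set.range (fun i : {i : Fin m // i ∉ S} => X (.xi i.1))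

/-- The universal algebra with a solution. -/
abbrev QS (v : UGen m → R) (e₀ : R) (S : Finset (Fin m)) : Type u :=
  MvPolynomial (CVar m) R ⧸ Ideal.span (relSet v e₀ S)

variable (v : UGen m → R) (e₀ : R) (S : Finset (Fin m))

/-- Its generators. -/
noncomputable abbrev qx (y : CVar m) : QS v e₀ S := Ideal.Quotient.mkₐ R (Ideal.span (relSet v e₀ S)) (X y)

theorem sol_qx : Sol v e₀ S (qx v e₀ S) := by
  have hz : ∀ p ∈ relSet v e₀ S, Ideal.Quotient.mkₐ R (Ideal.span (relSet v e₀ S)) p = 0 := fun p hp =>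
    Ideal.Quotient.eq_zero_iff_mem.2 (Ideal.subset_span hp)
  have hC : ∀ r, Ideal.Quotient.mkₐ R (Ideal.span (relSet v e₀ S)) (C r) = algebraMap R (QS v e₀ S) r :=
    fun r => (Ideal.Quotient.mkₐ R (Ideal.span (relSet v e₀ S))).commutes r
  refine ⟨?_, fun i hi => ?_, fun i hi => ?_, fun i hi j hj h => ?_, fun i hi => ?_⟩
  · refine Eq.trans ?_ (hz _ (Or.inl (Or.inl (Or.inl (Or.inl rfl)))))
    simp only [Ec, map_sub, map_add, map_mul, hC]
  · refine Eq.trans ?_ (hz _ (Or.inl (Or.inl (Or.inl (Or.inr ⟨⟨i, hi⟩, rfl⟩)))))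
    simp only [E2, map_sub, map_add, map_mul, hC]
  · refine Eq.trans ?_ (hz _ (Or.inl (Or.inl (Or.inr ⟨⟨i, hi⟩, rfl⟩))))
    simp only [E3, s, map_sub, map_add, map_mul, hC]
  · refine Eq.trans ?_ (hz _ (Or.inl (Or.inr ⟨⟨⟨(i, j), h⟩, hi, hj⟩, rfl⟩)))
    simp only [Exy, map_sub, map_add, map_mul, hC]
  · exact hz _ (Or.inr ⟨⟨i, hi⟩, rfl⟩)

theorem aeval_relSet {B : Type*} [CommRing B] [Algebra R B] {x : CVar m → B} (h : Sol v e₀ S x) :
    ∀ p ∈ relSet v e₀ S, aeval x p = 0 := by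
  rintro p ((((rfl | ⟨i, rfl⟩) | ⟨i, rfl⟩) | ⟨q, rfl⟩) | ⟨i, rfl⟩)
  · refine Eq.trans ?_ h.hc; simp [Ec]
  · refine Eq.trans ?_ (h.h2 i.1 i.2); simp [E2]
  · refine Eq.trans ?_ (h.h3 i.1 i.2); simp [E3, s]
  · refine Eq.trans ?_ (h.hxy _ q.2.1 _ q.2.2 q.1.2); simp [Exy]
  · exact (aeval_X x _).trans (h.h0 i.1 i.2)

/-- The map out of the universal algebra. -/
noncomputable def desc {B : Type*} [CommRing B] [Algebra R B] {x : CVar m → B} (h : Sol v e₀ S x) :
    QS v e₀ S →ₐ[R] B :=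
  Ideal.Quotient.liftₐ _ (aeval x) fun a ha => by
    rw [← RingHom.mem_ker]
    exact (Ideal.span_le (I := RingHom.ker (aeval (R := R) x))).2 (fun p hp => aeval_relSet v e₀ S h p hp) ha

theorem desc_qx {B : Type*} [CommRing B] [Algebra R B] {x : CVar m → B} (h : Sol v e₀ S x) (y : CVar m) :
    desc v e₀ S h (qx v e₀ S y) = x y :=
  aeval_X x y

/-- The indices of the monomials belonging to `S`. -/
def Ok : Option (ℕ ⊕ (CVar m × ℕ)) → Prop
  | some (Sum.inr (.xi i, _)) => i ∈ S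
  | _ => True

/-- The monomials belonging to `S` are linearly independent. -/
def Indep : Prop :=
  LinearIndependent R fun o : {o : Option (ℕ ⊕ (CVar m × ℕ)) // Ok S o} => mon (qx v e₀ S) o.1

theorem indep_of_sol {B : Type*} [CommRing B] [Algebra R B] {x : CVar m → B} (h : Sol v e₀ S x)
    (hi : LinearIndependent R fun o : {o : Option (ℕ ⊕ (CVar m × ℕ)) // Ok S o} => mon x o.1) :
    Indep v e₀ S := by
  refine LinearIndependent.of_comp (desc v e₀ S h).toLinearMap ?_
  convert hi using 1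
  funext o
  exact (map_mon (desc v e₀ S h) _ o.1).trans (congrArg (mon · o.1) (funext (desc_qx v e₀ S h)))

end Groth.Agent.CurveBasis15
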