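import Mathlib.RingTheory.PowerSeries.Basic
import Mathlib.RingTheory.PowerSeries.WellKnown
import Mathlib.Data.Finsupp.Fin
import Mathlib.Data.Finsupp.Weight
import Mathlib.SetTheory.Cardinal.Finite
import Mathlib.Algebra.Order.Antidiag.Nat
import Mathlib.Data.Finite.Prod
import Mathlib.Data.Fintype.Sigma
import Mathlib.Data.Finite.Sigma

/-!
# Generating series of weighted sets
-/

set_option autoImplicit false

universe u v

namespace Groth.Agent.CurveBasis15

open PowerSeries

variable {I : Type u} {J : Type v}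

/-- The generating series of a weight with finite fibres. -/
noncomputable def gen (w : I → ℕ) : PowerSeries ℤ := mk fun d => (Nat.card {i // w i = d} : ℤ)

/-- A pair of given total weight, sorted by the weights. -/
def prodFibre (w : I → ℕ) (w' : J → ℕ) (d : ℕ) :
    {p : I × J // w p.1 + w' p.2 = d} ≃
      Σ q : {q : ℕ × ℕ // q ∈ Finset.antidiagonal d}, {i // w i = q.1.1} × {j // w' j = q.1.2} where
  toFun p := ⟨⟨(w p.1.1, w' p.1.2), Finset.mem_antidiagonal.2 p.2⟩, ⟨p.1.1, rfl⟩, ⟨p.1.2, rfl⟩⟩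
  invFun s := ⟨(s.2.1.1, s.2.2.1), by rw [s.2.1.2, s.2.2.2]; exact Finset.mem_antidiagonal.1 s.1.2⟩
  left_inv _ := rfl
  right_inv := by rintro ⟨⟨⟨a, b⟩, h⟩, ⟨i, hi⟩, ⟨j, hj⟩⟩; dsimp only at hi hj; subst hi hj; rfl

theorem finite_prod {w : I → ℕ} {w' : J → ℕ} (hw : ∀ d, Finite {i // w i = d}) (hw' : ∀ d, Finite {j // w' j = d})
    (d : ℕ) : Finite {p : I × J // w p.1 + w' p.2 = d} :=
  haveI := hw; haveI := hw'
  Finite.of_equiv _ (prodFibre w w' d).symm

theorem gen_prod {w : I → ℕ} {w' : J → ℕ} (hw : ∀ d, Finite {i // w i = d}) (hw' : ∀ d, Finite {j // w' j = d}) :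
    gen (fun p : I × J => w p.1 + w' p.2) = gen w * gen w' := by
  haveI := hw
  haveI := hw'
  ext d
  simp only [gen, coeff_mk, coeff_mul]
  rw [Nat.card_congr (prodFibre w w' d), Nat.card_sigma]
  simp only [Nat.card_prod]
  push_cast
  exact Finset.sum_coe_sort (Finset.antidiagonal d)
    fun q => (Nat.card {i // w i = q.1} : ℤ) * (Nat.card {j // w' j = q.2} : ℤ)

theorem gen_congr {w : I → ℕ} {w' : J → ℕ} (e : I ≃ J) (h : ∀ i, w' (e i) = w i) : gen w = gen w' := by
  ext d
  simp only [gen, coeff_mk]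
  rw [Nat.card_congr (e.subtypeEquiv (q := fun j => w' j = d) fun i => by rw [h])]

theorem gen_nat : gen (fun k : ℕ => k) = mk fun _ => (1 : ℤ) := by
  ext d
  haveI : Unique {k : ℕ // k = d} := ⟨⟨⟨d, rfl⟩⟩, fun k => Subtype.ext k.2⟩
  simp [gen]

/-- Monomials in `n` variables are counted by `(1 - t)^{-n}`. -/
theorem gen_monomials : ∀ n : ℕ, (∀ d, Finite {x : Fin n →₀ ℕ // Finsupp.degree x = d}) ∧
    gen (fun x : Fin n →₀ ℕ => Finsupp.degree x) = (mk fun _ => (1 : ℤ)) ^ n
  | 0 => ⟨fun d => inferInstance, by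
      ext d
      rw [pow_zero, coeff_one]
      simp only [gen, coeff_mk]
      rcases eq_or_ne d 0 with rfl | hd
      · haveI : Unique {x : Fin 0 →₀ ℕ // Finsupp.degree x = 0} :=
          ⟨⟨⟨0, map_zero _⟩⟩, fun x => Subtype.ext (Subsingleton.elim _ _)⟩
        simp
      · haveI : IsEmpty {x : Fin 0 →₀ ℕ // Finsupp.degree x = d} := ⟨fun x => hd (by
          rw [← x.2, Subsingleton.elim x.1 0, map_zero])⟩
        simp [hd]⟩
  | n + 1 => by
    obtain ⟨hf, hg⟩ := gen_monomials n
    let e : ℕ × (Fin n →₀ ℕ) ≃ (Fin (n + 1) →₀ ℕ) :=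
      { toFun := fun p => Finsupp.cons p.1 p.2
        invFun := fun x => (x 0, Finsupp.tail x)
        left_inv := fun p => by simp
        right_inv := fun x => Finsupp.cons_tail x }
    have he : ∀ p, Finsupp.degree (e p) = p.1 + Finsupp.degree p.2 := fun p => by
      rw [Finsupp.degree_eq_sum, Finsupp.degree_eq_sum, Fin.sum_univ_succ]
      simp [e]
    have hN : ∀ d, Finite {k : ℕ // k = d} := fun d =>
      haveI : Subsingleton {k : ℕ // k = d} := ⟨fun a b => Subtype.ext (a.2.trans b.2.symm)⟩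
      inferInstance
    refine ⟨fun d => ?_, ?_⟩
    · haveI := finite_prod (w := fun k : ℕ => k) hN hf d
      exact Finite.of_equiv _ (e.subtypeEquiv (p := fun p => p.1 + Finsupp.degree p.2 = d)
        (q := fun x => Finsupp.degree x = d) fun p => by rw [he])
    · rw [← gen_congr e he, gen_prod (w := fun k : ℕ => k) hN hf, gen_nat, hg, pow_succ']

end Groth.Agent.CurveBasis15
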