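import Groth.Agent.Lib.CurveBasis15.UStep
import Groth.Agent.Lib.CurveBasis15.Series
import Mathlib.RingTheory.MvPolynomial.Basic
import Mathlib.LinearAlgebra.Dimension.StrongRankCondition
import Mathlib.Algebra.DirectSum.Decomposition

/-!
# The Hilbert series of `O(U_n)`
-/

set_option autoImplicit false

universe u

namespace Groth.Agent.CurveBasis15

open W4c5m1nsnscurves MvPolynomial

/-- `O(U_n)` has a homogeneous basis counted by `uhilb`. -/
def HasHomBasis (m : ℕ) : Prop :=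
  ∃ (I : Type) (wt : I → ℕ) (b : Module.Basis I ℤ (URing ℤ m)), (∀ i, b i ∈ upiece ℤ m (wt i)) ∧
    (∀ d, Finite {i // wt i = d}) ∧ gen wt = uhilb m

theorem hasHomBasis_two
    (h : Function.Bijective (MvPolynomial.aeval (R := ℤ) (S₁ := URing ℤ 2)
      ![ugen ℤ 2 .a, ugen ℤ 2 (.ci 0), ugen ℤ 2 (.cbi 0), ugen ℤ 2 (.ci 1), ugen ℤ 2 (.cbi 1),
        ugen ℤ 2 (.cij 0 1 Fin.zero_ne_one)])) : HasHomBasis 2 := by
  let φ : Fin 6 → UGen 2 := ![.a, .ci 0, .cbi 0, .ci 1, .cbi 1, .cij 0 1 Fin.zero_ne_one]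
  have hφ : ∀ i, uwt (φ i) = 1 := fun i => by fin_cases i <;> rfl
  have hae : MvPolynomial.aeval (R := ℤ) (S₁ := URing ℤ 2)
      ![ugen ℤ 2 .a, ugen ℤ 2 (.ci 0), ugen ℤ 2 (.cbi 0), ugen ℤ 2 (.ci 1), ugen ℤ 2 (.cbi 1),
        ugen ℤ 2 (.cij 0 1 Fin.zero_ne_one)] =
      (Ideal.Quotient.mkₐ ℤ (Ideal.span (URel ℤ 2))).comp (rename φ) := by
    refine MvPolynomial.algHom_ext fun i => ?_
    rw [aeval_X, AlgHom.comp_apply, rename_X]
    fin_cases i <;> rfl
  obtain ⟨hf, hg⟩ := gen_monomials 6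
  refine ⟨Fin 6 →₀ ℕ, fun x => Finsupp.degree x,
    (MvPolynomial.basisMonomials (Fin 6) ℤ).map (AlgEquiv.ofBijective _ h).toLinearEquiv, fun x => ?_, hf, ?_⟩
  · rw [Module.Basis.map_apply, MvPolynomial.coe_basisMonomials]
    change MvPolynomial.aeval (R := ℤ) (S₁ := URing ℤ 2) _ (monomial x 1) ∈ _
    rw [hae, AlgHom.comp_apply, rename_monomial]
    refine GrQuot.mk_mem_quot _ _ ?_
    rw [mem_weightedHomogeneousSubmodule]
    refine isWeightedHomogeneous_monomial _ _ _ ?_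
    rw [Finsupp.weight_apply, Finsupp.sum_mapDomain_index (by simp) (by intros; exact add_smul _ _ _),
      show (fun x => Finsupp.degree x) x = x.sum fun _ c => c from Finsupp.degree_apply x]
    exact Finset.sum_congr rfl fun i _ => by simp [hφ]
  · rw [hg, uhilb, Finset.Icc_eq_empty (by omega), Finset.prod_empty, mul_one]

section Step



/-- The weights of the monomials of the curve. -/
def wmon {m : ℕ} : Option (ℕ ⊕ (CVar m × ℕ)) → ℕ
  | none => 0
  | some (Sum.inl k) => k + 2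
  | some (Sum.inr (_, k)) => k + 1

/-- The variables of the curve. -/
def cvarEquiv (m : ℕ) : CVar m ≃ Option (Option (Fin m)) where
  toFun
    | .x2 => none
    | .x3 => some none
    | .xi i => some (some i)
  invFun
    | none => .x2
    | some none => .x3
    | some (some i) => .xi i
  left_inv y := by cases y <;> rfl
  right_inv := by rintro (_ | _ | i) <;> rfl

theorem finite_cvar (m : ℕ) : Finite (CVar m) := Finite.of_equiv _ (cvarEquiv m).symm

theorem card_cvar (m : ℕ) : Nat.card (CVar m) = m + 2 := by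
  rw [Nat.card_congr (cvarEquiv m)]; simp

/-- The monomials of weight one. -/
def wmonOne (m : ℕ) : {o : Option (ℕ ⊕ (CVar m × ℕ)) // wmon o = 1} ≃ CVar m where
  toFun
    | ⟨some (Sum.inr (y, _)), _⟩ => y
    | ⟨some (Sum.inl _), h⟩ => absurd h (by simp [wmon])
    | ⟨none, h⟩ => absurd h (by simp [wmon])
  invFun y := ⟨some (Sum.inr (y, 0)), rfl⟩
  left_inv := by
    rintro ⟨_ | (k | ⟨y, k⟩), h⟩
    · simp [wmon] at h
    · simp [wmon] at h
    · obtain rfl : k = 0 := by simpa [wmon] using h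
      rfl
  right_inv _ := rfl

/-- The monomials of higher weight. -/
def wmonHigh (m d : ℕ) : {o : Option (ℕ ⊕ (CVar m × ℕ)) // wmon o = d + 2} ≃ Option (CVar m) where
  toFun
    | ⟨some (Sum.inr (y, _)), _⟩ => some y
    | ⟨some (Sum.inl _), _⟩ => none
    | ⟨none, h⟩ => absurd h (by simp [wmon])
  invFun
    | some y => ⟨some (Sum.inr (y, d + 1)), rfl⟩
    | none => ⟨some (Sum.inl d), rfl⟩
  left_inv := by
    rintro ⟨_ | (k | ⟨y, k⟩), h⟩
    · simp [wmon] at h
    · obtain rfl : k = d := by simpa [wmon] using h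
      rfl
    · obtain rfl : k = d + 1 := by simpa [wmon] using h
      rfl
  right_inv := by rintro (_ | y) <;> rfl

theorem wmon_eq_zero {m : ℕ} {o : Option (ℕ ⊕ (CVar m × ℕ))} (h : wmon o = 0) : o = none := by
  rcases o with _ | (k | ⟨y, k⟩) <;> simp [wmon] at h ⊢

theorem finite_wmon (m : ℕ) : ∀ d, Finite {o : Option (ℕ ⊕ (CVar m × ℕ)) // wmon o = d}
  | 0 => haveI : Subsingleton {o : Option (ℕ ⊕ (CVar m × ℕ)) // wmon o = 0} :=
      ⟨fun a b => Subtype.ext ((wmon_eq_zero a.2).trans (wmon_eq_zero b.2).symm)⟩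
    inferInstance
  | 1 => haveI := finite_cvar m; Finite.of_equiv _ (wmonOne m).symm
  | d + 2 => haveI := finite_cvar m; Finite.of_equiv _ (wmonHigh m d).symm

theorem gen_wmon (m : ℕ) : gen (wmon (m := m)) = (PowerSeries.mk fun _ => (1 : ℤ)) *
    (1 + PowerSeries.C ((m : ℤ) + 1) * PowerSeries.X + PowerSeries.X ^ 2) := by
  set M := PowerSeries.mk fun _ => (1 : ℤ)
  rw [show M * (1 + PowerSeries.C ((m : ℤ) + 1) * PowerSeries.X + PowerSeries.X ^ 2) =
    M + PowerSeries.C ((m : ℤ) + 1) * (M * PowerSeries.X ^ 1) + M * PowerSeries.X ^ 2 by ring]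
  ext d
  rw [map_add, map_add, PowerSeries.coeff_C_mul, PowerSeries.coeff_mul_X_pow', PowerSeries.coeff_mul_X_pow']
  simp only [M, PowerSeries.coeff_mk, gen]
  haveI := finite_cvar m
  match d with
  | 0 =>
    haveI : Unique {o : Option (ℕ ⊕ (CVar m × ℕ)) // wmon o = 0} :=
      ⟨⟨⟨none, rfl⟩⟩, fun a => Subtype.ext (wmon_eq_zero a.2)⟩
    simp
  | 1 =>
    rw [Nat.card_congr (wmonOne m), card_cvar]
    simp
    ring
  | d + 2 =>
    rw [Nat.card_congr (wmonHigh m d), Finite.card_option, card_cvar]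
    simp
    ring

theorem uincl_mem_upiece {m d : ℕ} {r : URing ℤ m} (hr : r ∈ upiece ℤ m d) :
    uincl ℤ m r ∈ upiece ℤ (m + 1) d := by
  obtain ⟨p, hp, rfl⟩ := hr
  change Ideal.Quotient.mkₐ ℤ _ (rename UGen.castSucc p) ∈ _
  refine GrQuot.mk_mem_quot _ _ ?_
  rw [SetLike.mem_coe, mem_weightedHomogeneousSubmodule] at hp
  rw [mem_weightedHomogeneousSubmodule]
  intro x hx
  obtain ⟨x', rfl, hx'⟩ := coeff_rename_ne_zero _ _ _ hx
  rw [Finsupp.weight_apply, Finsupp.sum_mapDomain_index (by simp) (by intros; exact add_smul _ _ _)]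
  rw [← hp hx', Finsupp.weight_apply]
  refine Finset.sum_congr rfl fun g _ => ?_
  cases g <;> rfl

theorem ugen_mem_upiece {m : ℕ} (g : UGen m) : ugen ℤ m g ∈ upiece ℤ m (uwt g) :=
  GrQuot.mk_mem_quot _ _ ((mem_weightedHomogeneousSubmodule ..).2 (isWeightedHomogeneous_X _ _ g))

theorem mul_mem_upiece {m d d' : ℕ} {r r' : URing ℤ m} (hr : r ∈ upiece ℤ m d) (hr' : r' ∈ upiece ℤ m d') :
    r * r' ∈ upiece ℤ m (d + d') := by
  obtain ⟨p, hp, rfl⟩ := hr
  obtain ⟨p', hp', rfl⟩ := hr'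
  exact ⟨p * p', hp.mul hp', map_mul (Ideal.Quotient.mkₐ ℤ (Ideal.span (URel ℤ m))) p p'⟩

theorem one_mem_upiece (m : ℕ) : (1 : URing ℤ m) ∈ upiece ℤ m 0 :=
  ⟨1, isWeightedHomogeneous_one _ _, map_one (Ideal.Quotient.mkₐ ℤ (Ideal.span (URel ℤ m)))⟩

theorem pow_mem_upiece {m : ℕ} {r : URing ℤ m} (hr : r ∈ upiece ℤ m 1) : ∀ k, r ^ k ∈ upiece ℤ m k
  | 0 => by rw [pow_zero]; exact one_mem_upiece m
  | k + 1 => by rw [pow_succ]; exact mul_mem_upiece (pow_mem_upiece hr k) hr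

theorem hasHomBasis_succ {m : ℕ} (hm : 2 ≤ m) (h : HasHomBasis m) : HasHomBasis (m + 1) := by
  obtain ⟨I, wt, b, hb, hf, hg⟩ := h
  obtain ⟨e, hC, h2, h3, hi⟩ := exists_succ_equiv ℤ m (by omega)
  obtain ⟨hli, hsp⟩ := basis_of_good (ugen ℤ m) ⟨0, by omega⟩ (good_ugen ℤ m)
  let c := Module.Basis.mk hli hsp.ge
  let b' := (b.smulTower c).map e.toAddEquiv.toIntLinearEquiv
  refine ⟨I × Option (ℕ ⊕ (CVar m × ℕ)), fun p => wt p.1 + wmon p.2, b', fun p => ?_,
    finite_prod hf (finite_wmon m), ?_⟩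
  · have hb' : b' p = uincl ℤ m (b p.1) * mon (fun y => e (Ideal.Quotient.mkₐ (URing ℤ m) _ (X y))) p.2 := by
      simp only [b', Module.Basis.map_apply, Module.Basis.smulTower_apply, c, Module.Basis.mk_apply, cmon_eq]
      change e (b p.1 • mon _ p.2) = _
      rw [show ∀ (r : URing ℤ m) (z : CurveAlg (URing ℤ m) m (ugen ℤ m)), r • z = algebraMap _ _ r * z from
        fun r z => Algebra.smul_def r z, map_mul, hC, map_mon e]
    rw [hb']
    refine mul_mem_upiece (uincl_mem_upiece (hb p.1)) ?_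
    have hy : ∀ y : CVar m, e (Ideal.Quotient.mkₐ (URing ℤ m) _ (X y)) ∈ upiece ℤ (m + 1) 1 := fun y => by
      rcases y with _ | _ | i
      · rw [Ideal.Quotient.mkₐ_eq_mk, h2]; exact ugen_mem_upiece (.ci (Fin.last m))
      · rw [Ideal.Quotient.mkₐ_eq_mk, h3]
        exact add_mem (add_mem (ugen_mem_upiece .a) (ugen_mem_upiece (.ci _))) (ugen_mem_upiece (.cbi _))
      · rw [Ideal.Quotient.mkₐ_eq_mk, hi]; exact ugen_mem_upiece (.cij i.castSucc (Fin.last m) (Fin.castSucc_lt_last i).ne)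
    rcases p.2 with _ | (k | ⟨y, k⟩)
    · exact one_mem_upiece _
    · exact (mul_mem_upiece (pow_mem_upiece (hy .x2) (k + 1)) (hy .x3) : _ ∈ upiece ℤ (m + 1) (k + 1 + 1))
    · exact pow_mem_upiece (hy y) (k + 1)
  · rw [gen_prod hf (finite_wmon m), hg, gen_wmon, uhilb, uhilb, Finset.prod_Icc_succ_top (by omega)]
    push_cast
    ring

end Step

theorem isHomog (m : ℕ) :
    letI := MvPolynomial.weightedGradedAlgebra ℤ (uwt (m := m))
    GrQuot.IsHomog (weightedHomogeneousSubmodule ℤ (uwt (m := m))) (Ideal.span (URel ℤ m)) := by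
  letI := MvPolynomial.weightedGradedAlgebra ℤ (uwt (m := m))
  refine (GrQuot.isHomog_iff _ _).2 (Ideal.homogeneous_span _ _ ?_)
  have hX : ∀ g : UGen m, (X g : MvPolynomial (UGen m) ℤ).IsWeightedHomogeneous uwt (uwt g) :=
    fun g => isWeightedHomogeneous_X _ _ g
  rintro p (((⟨q, rfl⟩ | ⟨q, rfl⟩) | ⟨q, rfl⟩) | ⟨q, rfl⟩)
  · refine ⟨1, Submodule.sub_mem _ (Submodule.add_mem _ (hX _) (hX _))
      (Submodule.add_mem _ (Submodule.add_mem _ (Submodule.add_mem _ (Submodule.add_mem _ (hX .a) (hX _)) (hX _)) (hX _)) (hX _))⟩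
  · exact ⟨2, Submodule.sub_mem _ (Submodule.sub_mem _ (Submodule.add_mem _ ((hX _).mul (hX _)) ((hX _).mul (hX _)))
      ((hX _).mul (hX _))) (hX .c)⟩
  · exact ⟨2, Submodule.sub_mem _ (Submodule.sub_mem _ (Submodule.add_mem _ ((hX _).mul (hX _)) ((hX _).mul (hX _)))
      ((hX _).mul (hX _))) (hX .cb)⟩
  · exact ⟨2, Submodule.sub_mem _ (Submodule.add_mem _ (Submodule.sub_mem _ (Submodule.add_mem _ ((hX _).mul (hX _))
      ((hX _).mul (hX _))) ((hX _).mul (hX _))) (((((hX .a).add (hX (.ci q.1.2.2))).add (hX (.cbi q.1.2.2)))).mul (hX (.ci q.1.2.2)))) (hX .c)⟩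

theorem free_hilbertSeries {m : ℕ} (h : HasHomBasis m) :
    Module.Free ℤ (URing ℤ m) ∧ DirectSum.IsInternal (upiece ℤ m) ∧
      ∀ d : ℕ, (Module.finrank ℤ (upiece ℤ m d) : ℤ) = PowerSeries.coeff d (uhilb m) := by
  classical
  letI := MvPolynomial.weightedGradedAlgebra ℤ (uwt (m := m))
  haveI := isHomog m
  letI D : DirectSum.Decomposition (upiece ℤ m) :=
    GrQuot.decomposition (weightedHomogeneousSubmodule ℤ (uwt (m := m))) (Ideal.span (URel ℤ m))
  obtain ⟨I, wt, b, hb, hf, hg⟩ := h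
  refine ⟨Module.Free.of_basis b, DirectSum.Decomposition.isInternal _, fun d => ?_⟩
  have key : upiece ℤ m d = Submodule.span ℤ (Set.range fun i : {i // wt i = d} => b i.1) := by
    refine le_antisymm (fun x hx => ?_) (Submodule.span_le.2 (by rintro _ ⟨⟨i, rfl⟩, rfl⟩; exact hb i))
    suffices ∀ y, ((DirectSum.decompose (upiece ℤ m) y) d : URing ℤ m) ∈
        Submodule.span ℤ (Set.range fun i : {i // wt i = d} => b i.1) by
      simpa [DirectSum.decompose_of_mem_same _ hx] using this x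
    intro y
    induction (b.span_eq.symm ▸ Submodule.mem_top : y ∈ Submodule.span ℤ (Set.range b)) using Submodule.span_induction with
    | mem z hz =>
      obtain ⟨i, rfl⟩ := hz
      by_cases hi : wt i = d
      · subst hi
        rw [DirectSum.decompose_of_mem_same _ (hb i)]
        exact Submodule.subset_span ⟨⟨i, rfl⟩, rfl⟩
      · rw [DirectSum.decompose_of_mem_ne _ (hb i) hi]; exact zero_mem _
    | zero => simp
    | add z z' _ _ hz hz' => rw [DirectSum.decompose_add, DirectSum.add_apply, Submodule.coe_add]; exact add_mem hz hz'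
    | smul r z _ hz => rw [DirectSum.decompose_smul, DirectSum.smul_apply, Submodule.coe_smul]; exact Submodule.smul_mem _ r hz
  haveI := hf d
  haveI := Fintype.ofFinite {i // wt i = d}
  rw [key, finrank_span_eq_card (R := ℤ) (b := fun i : {i // wt i = d} => b i.1)
    (b.linearIndependent.comp _ Subtype.val_injective), ← hg, gen, PowerSeries.coeff_mk, Nat.card_eq_fintype_card]

theorem hasHomBasis (h2 : HasHomBasis 2) : ∀ m, 2 ≤ m → HasHomBasis m := fun m hm => by
  induction m, hm using Nat.le_induction with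
  | base => exact h2
  | succ m hm ih => exact hasHomBasis_succ hm ih

end Groth.Agent.CurveBasis15
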