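import Mathlib.Tactic.LinearCombination
import Mathlib.Tactic.Ring

/-!
# Identities among the relations of the curves with simple poles at marked points

`L`, `Q`, `Bq` and `T` are the linear, the two quadratic and the cubic relations of the parameters;
`E2`, `E3`, `Exy`, `Ec` are the relations of the curve.
-/

set_option autoImplicit false

namespace Groth.Agent.CurveBasis15

variable {B : Type*} [CommRing B]

section

variable (a c d : B)

/-- The value of `x₃` at a marked point. -/
def s (u ub : B) : B := a + u + ub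

/-- The constant term of the plane cubic. -/
def e (u ub : B) : B := s a u ub * (u * ub - c) - u * d

/-- The linear relation. -/
def L (u ub v vb p q : B) : B := p + q - (a + u + ub + v + vb)

/-- The first quadratic relation. -/
def Q (u v p q : B) : B := q * v + p * u - u * v - c

/-- The second quadratic relation. -/
def Bq (ub vb p q : B) : B := q * ub + p * vb - ub * vb - (d + c)

/-- The cubic relation. -/
def T (r rb pij pji pjk pik : B) : B := pij * pjk + pji * pik - pik * pjk + s a r rb * r - c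

/-- The difference between the product `x₂ xᵢ` and its reduction. -/
def E2 (x2 x3 x u ub : B) : B := x2 * x - (x2 * x3 + u * x + ub * x2 - c)

/-- The difference between the product `x₃ xᵢ` and its reduction. -/
def E3 (x2 x3 x u ub : B) : B := x3 * x - (x2 * x3 + s a u ub * (x - ub) + d)

/-- The difference between the product `xᵢ xⱼ` and its reduction. -/
def Exy (x2 x3 x y p q : B) : B := x * y - (x2 * x3 + p * y + q * x - c)

/-- The plane cubic. -/
def Ec (x2 x3 e₀ : B) : B := x2 * x3 * x3 - (x2 * x2 * x3 + a * (x2 * x3) + d * x2 + c * x3 + e₀)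

variable {a c d}
variable {x2 x3 x y z u ub v vb r rb p q pjk pkj pik pki e₀ : B}

theorem cubic_of_pole (h2 : E2 c x2 x3 x u ub = 0) (h3 : E3 a d x2 x3 x u ub = 0) :
    Ec a c d x2 x3 (e a c d u ub) = 0 := by
  linear_combination (norm := (simp only [E2, E3, Ec, e, s]; ring)) (x2 - u) * h3 - (x3 - s a u ub) * h2

theorem e_eq (hL : L a u ub v vb p q = 0) (hQ : Q c u v p q = 0) (hB : Bq c d ub vb p q = 0) :
    e a c d u ub = e a c d v vb := by
  simp only [L, Q, Bq, e, s] at *
  grobner

theorem commute_23 (h : Ec a c d x2 x3 (e a c d u ub) = 0) :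
    (x2 - u) * (x2 * x3 - s a u ub * ub + d) = (x3 - s a u ub) * (x2 * x3 + ub * x2 - c) := by
  linear_combination (norm := (simp only [Ec, e, s]; ring)) -h

theorem commute_2j (h2 : E2 c x2 x3 y v vb = 0) (h3 : E3 a d x2 x3 y v vb = 0)
    (hL : L a u ub v vb p q = 0) (hQ : Q c u v p q = 0) (hB : Bq c d ub vb p q = 0) :
    (x2 - u) * (x2 * x3 + p * y - c) = (y - q) * (x2 * x3 + ub * x2 - c) := by
  linear_combination (norm := (simp only [E2, E3, L, Q, Bq, s]; ring))
    -x2 * h3 + (p - ub - s a v vb) * h2 + (x2 * x3 + v * y - c) * hL - y * hQ + x2 * hB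

theorem commute_3j (hc : Ec a c d x2 x3 (e a c d u ub) = 0)
    (h2 : E2 c x2 x3 y v vb = 0) (h3 : E3 a d x2 x3 y v vb = 0)
    (hL : L a u ub v vb p q = 0) (hQ : Q c u v p q = 0) (hB : Bq c d ub vb p q = 0) :
    (x3 - s a u ub) * (x2 * x3 + p * y - c) = (y - q) * (x2 * x3 - s a u ub * ub + d) := by
  linear_combination (norm := (simp only [E2, E3, Ec, L, Q, Bq, e, s]; ring))
    hc + (p - x2) * h3 - s a v vb * h2 + (x2 * x3 + (v - ub) * y + d + ub * (vb - u)) * hL
      + (ub - y) * hQ + (y - ub - s a v vb) * hB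

/-- `x = xᵢ` is the new pole, `y = xⱼ` and `z = xₖ` old ones. -/
theorem commute_jk (h2 : E2 c x2 x3 y v vb = 0) (h3 : E3 a d x2 x3 y v vb = 0)
    (h2' : E2 c x2 x3 z r rb = 0) (h3' : E3 a d x2 x3 z r rb = 0) (hyz : Exy c x2 x3 y z pjk pkj = 0)
    (hL : L a u ub v vb p q = 0) (hL' : L a u ub r rb pik pki = 0)
    (hT : T a c v vb pik pki pkj p = 0) (hT' : T a c r rb p q pjk pik = 0) :
    (y - q) * (x2 * x3 + pik * z - c) = (z - pki) * (x2 * x3 + p * y - c) := by
  linear_combination (norm := (simp only [E2, E3, Exy, L, T, s]; ring))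
    x2 * h3 + s a v vb * h2 - x2 * h3' - s a r rb * h2' + (pik - p) * hyz
      + (x2 * x3 - c) * (hL' - hL) + y * hT - z * hT'

theorem vanish_2j (h2 : E2 c x2 x3 y v vb = 0)
    (hL : L a u ub v vb p q = 0) (hB : Bq c d ub vb p q = 0) :
    x2 * (x2 * x3 + p * y - c) + q * (x2 * x3 + ub * x2 - c)
      - (x2 * (x2 * x3 - s a u ub * ub + d) + s a u ub * (x2 * x3 + ub * x2 - c))
      - v * (x2 * x3 + p * y - c) - vb * (x2 * x3 + ub * x2 - c) = 0 := by
  linear_combination (norm := (simp only [E2, L, Bq, s]; ring)) p * h2 + (x2 * x3 - c) * hL + x2 * hB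

theorem vanish_3j (hc : Ec a c d x2 x3 (e a c d u ub) = 0) (h3 : E3 a d x2 x3 y v vb = 0)
    (hL : L a u ub v vb p q = 0) (hQ : Q c u v p q = 0) (hB : Bq c d ub vb p q = 0) :
    x3 * (x2 * x3 + p * y - c) + q * (x2 * x3 - s a u ub * ub + d)
      - (x2 * (x2 * x3 - s a u ub * ub + d) + s a u ub * (x2 * x3 + ub * x2 - c))
      - s a v vb * (x2 * x3 + p * y - c) = 0 := by
  linear_combination (norm := (simp only [E3, Ec, L, Q, Bq, e, s]; ring))
    hc + p * h3 + (x2 * x3 + d + ub * (vb - u)) * hL + ub * hQ + (-ub - s a v vb) * hB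

theorem vanish_jk (h2 : E2 c x2 x3 y v vb = 0) (h3 : E3 a d x2 x3 y v vb = 0)
    (hyz : Exy c x2 x3 y z pjk pkj = 0)
    (hL' : L a u ub r rb pik pki = 0) (hL'' : L a v vb r rb pjk pkj = 0)
    (hT : T a c v vb pik pki pkj p = 0) :
    y * (x2 * x3 + pik * z - c) + pki * (x2 * x3 + p * y - c)
      - (x2 * (x2 * x3 - s a u ub * ub + d) + s a u ub * (x2 * x3 + ub * x2 - c))
      - pjk * (x2 * x3 + pik * z - c) - pkj * (x2 * x3 + p * y - c) = 0 := by
  linear_combination (norm := (simp only [E2, E3, Exy, L, T, s]; ring))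
    x2 * h3 + s a v vb * h2 + pik * hyz + (x2 * x3 - c) * (hL' - hL'') + y * hT

theorem vanish_cubic (hc : Ec a c d x2 x3 (e a c d u ub) = 0) :
    (x3 - x2 - a) * (x2 * (x2 * x3 - s a u ub * ub + d) + s a u ub * (x2 * x3 + ub * x2 - c))
      + u * s a u ub * ((x2 * x3 - s a u ub * ub + d) - (x2 * x3 + ub * x2 - c))
      - d * (x2 * x3 + ub * x2 - c) - c * (x2 * x3 - s a u ub * ub + d) = 0 := by
  linear_combination (norm := (simp only [Ec, e, s]; ring)) (x2 + s a u ub) * hc

theorem point_2j (hL : L a u ub v vb p q = 0) (hQ : Q c u v p q = 0) :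
    E2 c u (s a u ub) q v vb = 0 := by
  linear_combination (norm := (simp only [E2, L, Q, s]; ring)) u * hL - hQ

theorem point_3j (hL : L a u ub v vb p q = 0) (hQ : Q c u v p q = 0) (hB : Bq c d ub vb p q = 0) :
    E3 a d u (s a u ub) q v vb = 0 := by
  linear_combination (norm := (simp only [E3, L, Q, Bq, s]; ring)) -(vb - u) * hL - hQ + hB

theorem point_jk (hT : T a c u ub pjk pkj pki q = 0) :
    Exy c u (s a u ub) q pki pjk pkj = 0 := by
  linear_combination (norm := (simp only [Exy, T, s]; ring)) -hT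

theorem point_cubic : Ec a c d u (s a u ub) (e a c d u ub) = 0 := by
  simp only [Ec, e, s]; ring

theorem pair_relations (hyx2 : E2 c x2 x3 y v vb = 0) (hx2 : E2 c x2 x3 x u ub = 0)
    (hx3 : E3 a d x2 x3 x u ub = 0) (hxy : Exy c x2 x3 x y p q = 0) :
    (c * L a u ub v vb p q) * 1 + (-L a u ub v vb p q) * (x2 * x3) + (-Bq c d ub vb p q) * x2
      + (Q c u v p q - u * L a u ub v vb p q) * x = 0 := by
  linear_combination (norm := (simp only [E2, E3, Exy, L, Q, Bq, s]; ring))
    (x2 - v) * hxy + (p - x) * hyx2 + (q - s a u ub - vb) * hx2 - x2 * hx3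

theorem triple_relations (hx2 : E2 c x2 x3 x u ub = 0) (hx3 : E3 a d x2 x3 x u ub = 0)
    (hz2 : E2 c x2 x3 z r rb = 0) (hz3 : E3 a d x2 x3 z r rb = 0) (hxy : Exy c x2 x3 x y p q = 0)
    (hyz : Exy c x2 x3 y z pjk pkj = 0) (hxz : Exy c x2 x3 x z pik pki = 0) :
    (-c * (L a u ub v vb p q - L a v vb r rb pjk pkj)) * 1
      + (L a u ub v vb p q - L a v vb r rb pjk pkj) * (x2 * x3)
      + (-T a c u ub pjk pkj pki q) * x + (T a c r rb p q pjk pik) * z = 0 := by
  linear_combination (norm := (simp only [E2, E3, Exy, L, T, s]; ring))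
    (pkj - z) * hxy + (x - p) * hyz + (pjk - q) * hxz - x2 * hz3 - s a r rb * hz2 + x2 * hx3 + s a u ub * hx2

theorem base_commute {w : B} (hP : w * w - (x2 * x2 + a * x2 + c) * w - d * (x2 * x2) - e₀ * x2 = 0) :
    x2 * (x2 * w + a * w + d * x2 + e₀) = (w - c) * w := by
  linear_combination -hP

theorem base_vanish {w : B} (hP : w * w - (x2 * x2 + a * x2 + c) * w - d * (x2 * x2) - e₀ * x2 = 0) :
    w * (x2 * w + a * w + d * x2 + e₀) + c * (x2 * w + a * w + d * x2 + e₀)
      - (x2 * (x2 * (x2 * w + a * w + d * x2 + e₀) + c * w))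
      - a * (x2 * (x2 * w + a * w + d * x2 + e₀) + c * w)
      - c * (x2 * w + a * w + d * x2 + e₀) - d * (x2 * w) - e₀ * w = 0 := by
  linear_combination (x2 + a) * hP

end

end Groth.Agent.CurveBasis15
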