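import Groth.Agent.Lib.CurveBasis15.Step

/-!
# The standard monomials form a basis exactly when the parameters lie on `U_n`
-/

set_option autoImplicit false

universe u

namespace Groth.Agent.CurveBasis15

open W4c5m1nsnscurves

variable {R : Type u} [CommRing R] {m : ℕ}

section Span

variable {B : Type*} [CommRing B] [Algebra R B]

theorem mul_mem_of_span {s : Set B} {N : Submodule R B} {y : B} (h : ∀ b ∈ s, y * b ∈ N) {b : B}
    (hb : b ∈ Submodule.span R s) : y * b ∈ N :=
  (Submodule.span_le (p := N.comap (LinearMap.mulLeft R y))).2 h hb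

theorem span_mon_closed (v : UGen m → R) (e₀ : R) (x : CVar m → B) (hx : Sol v e₀ Finset.univ x) (y : CVar m)
    {b : B} (hb : b ∈ Submodule.span R (Set.range (mon x))) : x y * b ∈ Submodule.span R (Set.range (mon x)) := by
  set M := Submodule.span R (Set.range (mon x)) with hMdef
  have hmon : ∀ o, mon x o ∈ M := fun o => Submodule.subset_span ⟨o, rfl⟩
  let H := Submodule.span R (mon x '' {o | Ok (∅ : Finset (Fin m)) o})
  have hmH : ∀ o, Ok (∅ : Finset (Fin m)) o → mon x o ∈ H := fun o ho => Submodule.subset_span ⟨o, ho, rfl⟩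
  have hHM : H ≤ M := Submodule.span_mono (Set.image_subset_range _ _)
  have hA : ∀ k, x .x2 ^ (k + 1) * x .x3 ∈ H := fun k => hmH (some (.inl k)) trivial
  have hP2 : ∀ k, x .x2 ^ (k + 1) ∈ H := fun k => hmH (some (.inr (.x2, k))) trivial
  have hP3 : ∀ k, x .x3 ^ (k + 1) ∈ H := fun k => hmH (some (.inr (.x3, k))) trivial
  have h1 : (1 : B) ∈ H := hmH none trivial
  have hK : ∀ {N : Submodule R B} (r : R) {z : B}, z ∈ N → algebraMap R B r * z ∈ N := fun {N} r z hz => by
    rw [← Algebra.smul_def]; exact N.smul_mem r hz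
  have hcub : ∀ k, x .x2 ^ k * (x .x2 * x .x3 * x .x3) ∈ H := fun k => by
    have hE := hx.hc
    simp only [Ec] at hE
    rw [sub_eq_zero.1 hE]
    simp only [mul_add]
    refine add_mem (add_mem (add_mem (add_mem ?_ ?_) ?_) ?_) ?_
    · rw [show x .x2 ^ k * (x .x2 * x .x2 * x .x3) = x .x2 ^ (k + 1 + 1) * x .x3 by ring]
      exact hA _
    · rw [mul_left_comm, show x .x2 ^ k * (x .x2 * x .x3) = x .x2 ^ (k + 1) * x .x3 by ring]
      exact hK _ (hA k)
    · rw [mul_left_comm, ← pow_succ]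
      exact hK _ (hP2 k)
    · rw [mul_left_comm]
      refine hK _ ?_
      rcases k with _ | k
      · rw [pow_zero, one_mul, ← pow_one (x .x3)]; exact hP3 0
      · exact hA k
    · rw [mul_comm]
      refine hK _ ?_
      rcases k with _ | k
      · rw [pow_zero]; exact h1
      · exact hP2 k
  have h3 : ∀ {b}, b ∈ H → x .x3 * b ∈ H := fun {b} hb => by
    refine mul_mem_of_span ?_ hb
    rintro _ ⟨o, ho, rfl⟩
    rcases o with _ | (k | ⟨_ | _ | j, k⟩)
    · simpa [mon] using hP3 0
    · change x .x3 * (x .x2 ^ (k + 1) * x .x3) ∈ H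
      rw [show x .x3 * (x .x2 ^ (k + 1) * x .x3) = x .x2 ^ k * (x .x2 * x .x3 * x .x3) by ring]
      exact hcub k
    · change x .x3 * x .x2 ^ (k + 1) ∈ H
      rw [mul_comm]; exact hA k
    · change x .x3 * x .x3 ^ (k + 1) ∈ H
      rw [← pow_succ']; exact hP3 (k + 1)
    · exact absurd ho (Finset.notMem_empty j)
  have h2 : ∀ {b}, b ∈ H → x .x2 * b ∈ H := fun {b} hb => by
    refine mul_mem_of_span ?_ hb
    rintro _ ⟨o, ho, rfl⟩
    rcases o with _ | (k | ⟨_ | _ | j, k⟩)
    · simpa [mon] using hP2 0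
    · change x .x2 * (x .x2 ^ (k + 1) * x .x3) ∈ H
      rw [← mul_assoc, ← pow_succ']; exact hA (k + 1)
    · change x .x2 * x .x2 ^ (k + 1) ∈ H
      rw [← pow_succ']; exact hP2 (k + 1)
    · change x .x2 * x .x3 ^ (k + 1) ∈ H
      induction k with
      | zero => simpa using hA 0
      | succ k ih =>
        rw [pow_succ' _ (k + 1), mul_left_comm]
        exact h3 (ih trivial)
    · exact absurd ho (Finset.notMem_empty j)
  let Hj : Fin m → Submodule R B := fun j =>
    H ⊔ Submodule.span R (Set.range fun k : ℕ => x (.xi j) ^ (k + 1))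
  have hPj : ∀ j k, x (.xi j) ^ (k + 1) ∈ Hj j := fun j k => Submodule.mem_sup_right (Submodule.subset_span ⟨k, rfl⟩)
  have hxj : ∀ j, x (.xi j) ∈ Hj j := fun j => pow_one (x (.xi j)) ▸ hPj j 0
  have hw : x .x2 * x .x3 ∈ H := by simpa using hA 0
  have hx2 : x .x2 ∈ H := by simpa using hP2 0
  have hC : ∀ r, algebraMap R B r ∈ H := fun r => mul_one (algebraMap R B r) ▸ hK r h1
  have hr2 : ∀ j, x .x2 * x (.xi j) ∈ Hj j := fun j => by
    rw [sub_eq_zero.1 (hx.h2 j (Finset.mem_univ j))]
    exact sub_mem (add_mem (add_mem (Submodule.mem_sup_left hw) (hK _ (hxj j))) (hK _ (Submodule.mem_sup_left hx2)))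
      (Submodule.mem_sup_left (hC _))
  have hr3 : ∀ j, x .x3 * x (.xi j) ∈ Hj j := fun j => by
    rw [sub_eq_zero.1 (hx.h3 j (Finset.mem_univ j))]
    refine add_mem (add_mem (Submodule.mem_sup_left hw) ?_) (Submodule.mem_sup_left (hC _))
    rw [mul_sub, s, ← map_add, ← map_add]
    exact sub_mem (hK _ (hxj j)) (hK _ (Submodule.mem_sup_left (hC _)))
  -- multiplying `H` by `xᵢ` stays in `H + R xᵢ`
  have hjH : ∀ j {b}, b ∈ H → x (.xi j) * b ∈ H ⊔ Submodule.span R {x (.xi j)} := fun j {b} hb => by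
    let N := H ⊔ Submodule.span R {x (.xi j)}
    have hxN : x (.xi j) ∈ N := Submodule.mem_sup_right (Submodule.subset_span rfl)
    have hmul : ∀ y, (∀ {b}, b ∈ H → y * b ∈ H) → y * x (.xi j) ∈ N → ∀ z ∈ N, y * z ∈ N := fun y hy hyx z hz => by
      refine (sup_le (fun z hz => Submodule.mem_sup_left (hy hz))
        ((Submodule.span_singleton_le_iff_mem _ _).2 hyx) : N ≤ N.comap (LinearMap.mulLeft R y)) hz
    have h2N := hmul _ h2 (by
      rw [sub_eq_zero.1 (hx.h2 j (Finset.mem_univ j))]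
      exact sub_mem (add_mem (add_mem (Submodule.mem_sup_left hw) (hK _ hxN)) (hK _ (Submodule.mem_sup_left hx2)))
        (Submodule.mem_sup_left (hC _)))
    have h3N := hmul _ h3 (by
      rw [sub_eq_zero.1 (hx.h3 j (Finset.mem_univ j))]
      refine add_mem (add_mem (Submodule.mem_sup_left hw) ?_) (Submodule.mem_sup_left (hC _))
      rw [mul_sub, s, ← map_add, ← map_add]
      exact sub_mem (hK _ hxN) (hK _ (Submodule.mem_sup_left (hC _))))
    have hpow2 : ∀ k, x (.xi j) * x .x2 ^ k ∈ N := fun k => by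
      induction k with
      | zero => simpa using hxN
      | succ k ih => rw [pow_succ', mul_left_comm]; exact h2N _ ih
    refine mul_mem_of_span ?_ hb
    rintro _ ⟨o, ho, rfl⟩
    rcases o with _ | (k | ⟨_ | _ | l, k⟩)
    · simpa [mon] using hxN
    · change x (.xi j) * (x .x2 ^ (k + 1) * x .x3) ∈ N
      rw [mul_comm (x .x2 ^ (k + 1)), mul_left_comm]
      exact h3N _ (hpow2 _)
    · exact hpow2 (k + 1)
    · change x (.xi j) * x .x3 ^ (k + 1) ∈ N
      induction k with
      | zero => simpa [mul_comm] using h3N _ hxN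
      | succ k ih => rw [pow_succ' _ (k + 1), mul_left_comm]; exact h3N _ (ih trivial)
    · exact absurd ho (Finset.notMem_empty l)
  -- `x_y` times a power of `xᵢ`
  have hPM : ∀ j k, x y * x (.xi j) ^ (k + 1) ∈ M := fun j k => by
    by_cases hy : y = .xi j
    · subst hy
      rw [← pow_succ']
      exact hmon (some (.inr (.xi j, k + 1)))
    let N := Hj j ⊔ Submodule.span R {x y}
    have hNM : N ≤ M := sup_le (sup_le hHM (Submodule.span_le.2 (by rintro _ ⟨l, rfl⟩; exact hmon (some (.inr (.xi j, l))))))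
      ((Submodule.span_singleton_le_iff_mem _ _).2 (by simpa [mon] using hmon (some (.inr (y, 0)))))
    have hbase : x (.xi j) * x y ∈ N := by
      rcases y with _ | _ | i
      · rw [mul_comm]; exact Submodule.mem_sup_left (hr2 j)
      · rw [mul_comm]; exact Submodule.mem_sup_left (hr3 j)
      · rw [sub_eq_zero.1 (hx.hxy j (Finset.mem_univ j) i (Finset.mem_univ i) fun h => hy (h ▸ rfl))]
        exact sub_mem (add_mem (add_mem (Submodule.mem_sup_left (Submodule.mem_sup_left hw))
          (hK _ (Submodule.mem_sup_right (Submodule.subset_span rfl)))) (hK _ (Submodule.mem_sup_left (hxj j))))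
          (Submodule.mem_sup_left (Submodule.mem_sup_left (hC _)))
    have hcl : ∀ z ∈ N, x (.xi j) * z ∈ N := fun z hz => by
      refine (sup_le (sup_le (fun z hz => ?_) (Submodule.span_le.2 ?_))
        ((Submodule.span_singleton_le_iff_mem _ _).2 hbase) : N ≤ N.comap (LinearMap.mulLeft R (x (.xi j)))) hz
      · exact Submodule.mem_sup_left ((sup_le_sup_left ((Submodule.span_singleton_le_iff_mem _ _).2
          (Submodule.subset_span (R := R) (s := Set.range fun k : ℕ => x (.xi j) ^ (k + 1)) ⟨0, pow_one _⟩)) H)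
          (hjH j hz))
      · rintro _ ⟨l, rfl⟩
        change x (.xi j) * x (.xi j) ^ (l + 1) ∈ N
        rw [← pow_succ']
        exact Submodule.mem_sup_left (hPj j (l + 1))
    refine hNM ?_
    induction k with
    | zero => rw [zero_add, pow_one, mul_comm]; exact hbase
    | succ k ih => rw [pow_succ' _ (k + 1), mul_left_comm]; exact hcl _ ih
  refine mul_mem_of_span ?_ hb
  rintro _ ⟨o, rfl⟩
  by_cases ho : Ok (∅ : Finset (Fin m)) o
  · rcases y with _ | _ | i
    · exact hHM (h2 (hmH o ho))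
    · exact hHM (h3 (hmH o ho))
    · exact sup_le hHM ((Submodule.span_singleton_le_iff_mem _ _).2
        (by simpa [mon] using hmon (some (.inr (.xi i, 0))))) (hjH i (hmH o ho))
  · rcases o with _ | (k | ⟨_ | _ | j, k⟩)
    · exact absurd trivial ho
    · exact absurd trivial ho
    · exact absurd trivial ho
    · exact absurd trivial ho
    · exact hPM j k

end Span

theorem rel_eq_zero (v : UGen m → R) (p : MvPolynomial (CVar m) R) (hp : p ∈ CRel R m v) :
    Ideal.Quotient.mkₐ R (Ideal.span (CRel R m v)) p = 0 :=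
  Ideal.Quotient.eq_zero_iff_mem.2 (Ideal.subset_span hp)

theorem sol_curveAlg (v : UGen m → R) (i₀ : Fin m) :
    Sol v (e (v .a) (v .c) (v .cb - v .c) (v (.ci i₀)) (v (.cbi i₀))) Finset.univ
      fun y => Ideal.Quotient.mkₐ R (Ideal.span (CRel R m v)) (MvPolynomial.X y) := by
  have hC : ∀ r, Ideal.Quotient.mkₐ R (Ideal.span (CRel R m v)) (MvPolynomial.C r) = algebraMap R _ r :=
    (Ideal.Quotient.mkₐ R (Ideal.span (CRel R m v))).commutes
  have h2 : ∀ i, E2 (algebraMap R _ (v .c)) (Ideal.Quotient.mkₐ R (Ideal.span (CRel R m v)) (MvPolynomial.X .x2))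
      (Ideal.Quotient.mkₐ R (Ideal.span (CRel R m v)) (MvPolynomial.X .x3))
      (Ideal.Quotient.mkₐ R (Ideal.span (CRel R m v)) (MvPolynomial.X (.xi i)))
      (algebraMap R _ (v (.ci i))) (algebraMap R _ (v (.cbi i))) = 0 := fun i => by
    refine Eq.trans ?_ (rel_eq_zero v _ (Or.inl (Or.inl ⟨i, rfl⟩)))
    simp only [E2, map_sub, map_add, map_mul, hC]
  have h3 : ∀ i, E3 (algebraMap R _ (v .a)) (algebraMap R _ (v .cb - v .c))
      (Ideal.Quotient.mkₐ R (Ideal.span (CRel R m v)) (MvPolynomial.X .x2))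
      (Ideal.Quotient.mkₐ R (Ideal.span (CRel R m v)) (MvPolynomial.X .x3))
      (Ideal.Quotient.mkₐ R (Ideal.span (CRel R m v)) (MvPolynomial.X (.xi i)))
      (algebraMap R _ (v (.ci i))) (algebraMap R _ (v (.cbi i))) = 0 := fun i => by
    refine Eq.trans ?_ (rel_eq_zero v _ (Or.inl (Or.inr ⟨i, rfl⟩)))
    simp only [E3, s, map_sub, map_add, map_mul, hC]
    ring
  refine ⟨?_, fun i _ => h2 i, fun i _ => h3 i, fun i _ j _ h => ?_, fun i hi => absurd (Finset.mem_univ i) hi⟩
  · have := cubic_of_pole (h2 i₀) (h3 i₀)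
    simp only [e, s, map_sub, map_add, map_mul] at this ⊢
    exact this
  · refine Eq.trans ?_ (rel_eq_zero v _ (Or.inr ⟨⟨(i, j), h⟩, rfl⟩))
    simp only [Exy, map_sub, map_add, map_mul, hC]

theorem good_of_linearIndependent (v : UGen m → R) (i₀ : Fin m) (h : LinearIndependent R (cmon R m v)) : Good v := by
  rw [cmon_eq] at h
  have hx := sol_curveAlg v i₀
  set x := fun y => Ideal.Quotient.mkₐ R (Ideal.span (CRel R m v)) (MvPolynomial.X y)
  have hsm : ∀ (r : R) (z : CurveAlg R m v), r • z = algebraMap R _ r * z := fun r z => Algebra.smul_def r z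
  have three : ∀ (c₀ c₁ c₂ c₃ : R) (y z : CVar m), y ≠ z →
      c₀ • (1 : CurveAlg R m v) + c₁ • (x .x2 * x .x3) + c₂ • x y + c₃ • x z = 0 →
      c₀ = 0 ∧ c₁ = 0 ∧ c₂ = 0 ∧ c₃ = 0 := fun c₀ c₁ c₂ c₃ y z hyz h0 => by
    have hli := Fintype.linearIndependent_iff.1 (h.comp
      ![none, some (.inl 0), some (.inr (y, 0)), some (.inr (z, 0))]
      (by intro i j hij; fin_cases i <;> fin_cases j <;> simp_all [hyz.symm]))
      ![c₀, c₁, c₂, c₃] (by simpa [Fin.sum_univ_four, mon] using h0)
    exact ⟨hli 0, hli 1, hli 2, hli 3⟩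
  have pair : ∀ i j (hij : i ≠ j), L (v .a) (v (.ci i)) (v (.cbi i)) (v (.ci j)) (v (.cbi j))
        (v (.cij i j hij)) (v (.cij j i hij.symm)) = 0 ∧
      Q (v .c) (v (.ci i)) (v (.ci j)) (v (.cij i j hij)) (v (.cij j i hij.symm)) = 0 ∧
      Bq (v .c) (v .cb - v .c) (v (.cbi i)) (v (.cbi j)) (v (.cij i j hij)) (v (.cij j i hij.symm)) = 0 := fun i j hij => by
    have hid := pair_relations (hx.h2 j (Finset.mem_univ j)) (hx.h2 i (Finset.mem_univ i))
      (hx.h3 i (Finset.mem_univ i)) (hx.hxy i (Finset.mem_univ i) j (Finset.mem_univ j) hij)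
    obtain ⟨-, hw, h2', hi'⟩ := three (v .c * L (v .a) (v (.ci i)) (v (.cbi i)) (v (.ci j)) (v (.cbi j))
        (v (.cij i j hij)) (v (.cij j i hij.symm)))
      (-L (v .a) (v (.ci i)) (v (.cbi i)) (v (.ci j)) (v (.cbi j)) (v (.cij i j hij)) (v (.cij j i hij.symm)))
      (-Bq (v .c) (v .cb - v .c) (v (.cbi i)) (v (.cbi j)) (v (.cij i j hij)) (v (.cij j i hij.symm)))
      (Q (v .c) (v (.ci i)) (v (.ci j)) (v (.cij i j hij)) (v (.cij j i hij.symm)) - v (.ci i) *
        L (v .a) (v (.ci i)) (v (.cbi i)) (v (.ci j)) (v (.cbi j)) (v (.cij i j hij)) (v (.cij j i hij.symm)))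
      .x2 (.xi i) (by simp) (by
        refine Eq.trans ?_ hid
        simp only [hsm, L, Q, Bq, map_sub, map_add, map_mul, map_neg])
    rw [neg_eq_zero] at hw h2'
    rw [hw, mul_zero, sub_zero] at hi'
    exact ⟨hw, hi', h2'⟩
  refine ⟨fun i j hij => (pair i j hij).1, fun i j hij => (pair i j hij).2.1, fun i j hij => (pair i j hij).2.2,
    fun i j k hij hjk hik => ?_⟩
  have hid := triple_relations (u := algebraMap R _ (v (.ci i))) (ub := algebraMap R _ (v (.cbi i)))
    (v := algebraMap R _ (v (.ci j))) (vb := algebraMap R _ (v (.cbi j)))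
    (hx.h2 i (Finset.mem_univ i)) (hx.h3 i (Finset.mem_univ i)) (hx.h2 k (Finset.mem_univ k))
    (hx.h3 k (Finset.mem_univ k)) (hx.hxy i (Finset.mem_univ i) j (Finset.mem_univ j) hij)
    (hx.hxy j (Finset.mem_univ j) k (Finset.mem_univ k) hjk) (hx.hxy i (Finset.mem_univ i) k (Finset.mem_univ k) hik)
  obtain ⟨-, -, -, hk'⟩ := three
    (-v .c * (L (v .a) (v (.ci i)) (v (.cbi i)) (v (.ci j)) (v (.cbi j)) (v (.cij i j hij)) (v (.cij j i hij.symm))
      - L (v .a) (v (.ci j)) (v (.cbi j)) (v (.ci k)) (v (.cbi k)) (v (.cij j k hjk)) (v (.cij k j hjk.symm))))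
    (L (v .a) (v (.ci i)) (v (.cbi i)) (v (.ci j)) (v (.cbi j)) (v (.cij i j hij)) (v (.cij j i hij.symm))
      - L (v .a) (v (.ci j)) (v (.cbi j)) (v (.ci k)) (v (.cbi k)) (v (.cij j k hjk)) (v (.cij k j hjk.symm)))
    (-T (v .a) (v .c) (v (.ci i)) (v (.cbi i)) (v (.cij j k hjk)) (v (.cij k j hjk.symm))
      (v (.cij k i hik.symm)) (v (.cij j i hij.symm)))
    (T (v .a) (v .c) (v (.ci k)) (v (.cbi k)) (v (.cij i j hij)) (v (.cij j i hij.symm))
      (v (.cij j k hjk)) (v (.cij i k hik))) (.xi i) (.xi k) (by simp [hik]) (by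
        refine Eq.trans ?_ hid
        simp only [hsm, T, L, s, map_sub, map_add, map_mul, map_neg])
  exact hk'

theorem basis_of_good (v : UGen m → R) (i₀ : Fin m) (h : Good v) :
    LinearIndependent R (cmon R m v) ∧ Submodule.span R (Set.range (cmon R m v)) = ⊤ := by
  rw [cmon_eq]
  refine ⟨?_, ?_⟩
  · refine LinearIndependent.of_comp (Ideal.Quotient.liftₐ (Ideal.span (CRel R m v))
      (MvPolynomial.aeval (qx v (e (v .a) (v .c) (v .cb - v .c) (v (.ci i₀)) (v (.cbi i₀))) Finset.univ)) ?_).toLinearMap ?_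
    · intro a ha
      rw [← RingHom.mem_ker]
      refine (Ideal.span_le.2 ?_ : Ideal.span (CRel R m v) ≤ _) ha
      have hq := sol_qx v (e (v .a) (v .c) (v .cb - v .c) (v (.ci i₀)) (v (.cbi i₀))) Finset.univ
      rintro p ((⟨i, rfl⟩ | ⟨i, rfl⟩) | ⟨q, rfl⟩)
      · refine Eq.trans ?_ (hq.h2 i (Finset.mem_univ i))
        simp [E2]
      · refine Eq.trans ?_ (hq.h3 i (Finset.mem_univ i))
        simp [E3, s]
        ring
      · refine Eq.trans ?_ (hq.hxy _ (Finset.mem_univ _) _ (Finset.mem_univ _) q.2)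
        simp [Exy]
    · have := (indep_univ h i₀).comp
        (fun o => ⟨o, by rcases o with _ | (k | ⟨_ | _ | j, k⟩) <;> first | exact Finset.mem_univ _ | trivial⟩)
        (fun a b hab => congrArg Subtype.val hab)
      convert this using 1
      all_goals first
        | (funext o
           simp only [Function.comp_apply, AlgHom.toLinearMap_apply, map_mon]
           exact congrArg (mon · o) (funext fun y => MvPolynomial.aeval_X _ y))
        | rfl
  · refine eq_top_iff.2 fun b hb => ?_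
    clear hb
    obtain ⟨p, rfl⟩ := Ideal.Quotient.mkₐ_surjective R (Ideal.span (CRel R m v)) b
    suffices ∀ z ∈ Submodule.span R (Set.range (mon fun y => Ideal.Quotient.mkₐ R (Ideal.span (CRel R m v)) (MvPolynomial.X y))),
        Ideal.Quotient.mkₐ R (Ideal.span (CRel R m v)) p * z ∈
          Submodule.span R (Set.range (mon fun y => Ideal.Quotient.mkₐ R (Ideal.span (CRel R m v)) (MvPolynomial.X y))) by
      simpa using this 1 (Submodule.subset_span ⟨none, rfl⟩)
    induction p using MvPolynomial.induction_on with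
    | C a =>
      intro z hz
      rw [show Ideal.Quotient.mkₐ R (Ideal.span (CRel R m v)) (MvPolynomial.C a) = algebraMap R _ a from
        (Ideal.Quotient.mkₐ R (Ideal.span (CRel R m v))).commutes a, ← Algebra.smul_def]
      exact Submodule.smul_mem _ a hz
    | add p q hp hq => intro z hz; rw [map_add, add_mul]; exact add_mem (hp z hz) (hq z hz)
    | mul_X p y hp =>
      intro z hz
      rw [map_mul, mul_assoc]
      exact hp _ (span_mon_closed v _ _ (sol_curveAlg v i₀) y hz)

end Groth.Agent.CurveBasis15
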