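import Groth.Agent.Lib.CurveBasis15.Base

/-!
# Adding one pole; the monomials are independent
-/

set_option autoImplicit false

universe u

namespace Groth.Agent.CurveBasis15

open W4c5m1nsnscurves

variable {R : Type u} [CommRing R] {m : ℕ}

section

variable {B : Type*} [CommRing B] [Algebra R B]

local notation "K" => algebraMap R B

theorem map_L' {a u ub w wb p q : R} (h : L a u ub w wb p q = 0) :
    L (K a) (K u) (K ub) (K w) (K wb) (K p) (K q) = 0 := by
  have := congrArg K h; simpa [L] using this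

theorem map_Q' {c u w p q : R} (h : Q c u w p q = 0) : Q (K c) (K u) (K w) (K p) (K q) = 0 := by
  have := congrArg K h; simpa [Q] using this

theorem map_Bq' {c d ub wb p q : R} (h : Bq c d ub wb p q = 0) :
    Bq (K c) (K d) (K ub) (K wb) (K p) (K q) = 0 := by
  have := congrArg K h; simpa [Bq] using this

theorem map_T' {a c r rb pij pji pjk pik : R} (h : T a c r rb pij pji pjk pik = 0) :
    T (K a) (K c) (K r) (K rb) (K pij) (K pji) (K pjk) (K pik) = 0 := by
  have := congrArg K h; simpa [T, s] using this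

theorem Sol.map {v : UGen m → R} {e₀ : R} {S : Finset (Fin m)} {x : CVar m → B} (hx : Sol v e₀ S x)
    {B' : Type*} [CommRing B'] [Algebra R B'] (f : B →ₐ[R] B') : Sol v e₀ S fun y => f (x y) := by
  refine ⟨?_, fun i hi => ?_, fun i hi => ?_, fun i hi j hj h => ?_, fun i hi => ?_⟩
  · have := congrArg f hx.hc
    simpa [Ec] using this
  · have := congrArg f (hx.h2 i hi)
    simpa [E2] using this
  · have := congrArg f (hx.h3 i hi)
    simpa [E3, s] using this
  · have := congrArg f (hx.hxy i hi j hj h)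
    simpa [Exy] using this
  · rw [hx.h0 i hi, map_zero]

end

theorem indep_insert {v : UGen m → R} (hv : Good v) {e₀ : R} {S : Finset (Fin m)} {i : Fin m} (hiS : i ∉ S)
    (he : e (v .a) (v .c) (v .cb - v .c) (v (.ci i)) (v (.cbi i)) = e₀) (ih : Indep v e₀ S) :
    Indep v e₀ (insert i S) := by
  classical
  have hne : ∀ {j}, j ∈ S → i ≠ j := fun hj h => hiS (h ▸ hj)
  let x2 := qx v e₀ S .x2
  let x3 := qx v e₀ S .x3
  let K := algebraMap R (QS v e₀ S)
  let χ₀ : CVar m → R := fun y => match y with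
    | .x2 => v (.ci i)
    | .x3 => s (v .a) (v (.ci i)) (v (.cbi i))
    | .xi j => if hj : j ∈ S then v (.cij j i (hne hj).symm) else 0
  let ψ₀ : CVar m → QS v e₀ S := fun y => match y with
    | .x2 => x2 * x3 + K (v (.cbi i)) * x2 - K (v .c)
    | .x3 => x2 * x3 - s (K (v .a)) (K (v (.ci i))) (K (v (.cbi i))) * K (v (.cbi i)) + K (v .cb - v .c)
    | .xi j => if hj : j ∈ S then x2 * x3 + K (v (.cij i j (hne hj))) * qx v e₀ S (.xi j) - K (v .c) else 0
  have hs : ∀ a b c : R, K (s a b c) = s (K a) (K b) (K c) := fun a b c => by simp [s]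
  have hq := sol_qx v e₀ S
  have hc : Ec (K (v .a)) (K (v .c)) (K (v .cb - v .c)) x2 x3
      (e (K (v .a)) (K (v .c)) (K (v .cb - v .c)) (K (v (.ci i))) (K (v (.cbi i)))) = 0 := by
    have h1 := congrArg K he
    rw [show e (K (v .a)) (K (v .c)) (K (v .cb - v .c)) (K (v (.ci i))) (K (v (.cbi i))) = K e₀ by
      rw [← h1]; simp [e, s]]
    exact hq.hc
  obtain ⟨C', _, _, ι, x, hx, hli⟩ := exists_pole (relSet v e₀ S) χ₀ ψ₀
    (fun y z => by
      rcases y with _ | _ | j <;> rcases z with _ | _ | k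
      · rfl
      · change (x2 - K (v (.ci i))) * _ = (x3 - K (s (v .a) (v (.ci i)) (v (.cbi i)))) * _
        rw [hs]
        exact commute_23 hc
      · by_cases hk : k ∈ S
        · simp only [χ₀, ψ₀, dif_pos hk]
          exact commute_2j (hq.h2 k hk) (hq.h3 k hk) (map_L' (hv.hL i k (hne hk)))
            (map_Q' (hv.hQ i k (hne hk))) (map_Bq' (hv.hB i k (hne hk)))
        · simp only [χ₀, ψ₀, dif_neg hk, mul_zero, map_zero, sub_zero]
          rw [show Ideal.Quotient.mkₐ R (Ideal.span (relSet v e₀ S)) (MvPolynomial.X (CVar.xi k)) = 0 from hq.h0 k hk, zero_mul]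
      · change (x3 - K (s (v .a) (v (.ci i)) (v (.cbi i)))) * _ = (x2 - K (v (.ci i))) * _
        rw [hs]
        exact (commute_23 hc).symm
      · rfl
      · by_cases hk : k ∈ S
        · simp only [χ₀, ψ₀, dif_pos hk]
          rw [hs]
          exact commute_3j hc (hq.h2 k hk) (hq.h3 k hk) (map_L' (hv.hL i k (hne hk)))
            (map_Q' (hv.hQ i k (hne hk))) (map_Bq' (hv.hB i k (hne hk)))
        · simp only [χ₀, ψ₀, dif_neg hk, mul_zero, map_zero, sub_zero]
          rw [show Ideal.Quotient.mkₐ R (Ideal.span (relSet v e₀ S)) (MvPolynomial.X (CVar.xi k)) = 0 from hq.h0 k hk, zero_mul]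
      · by_cases hj : j ∈ S
        · simp only [χ₀, ψ₀, dif_pos hj]
          exact (commute_2j (hq.h2 j hj) (hq.h3 j hj) (map_L' (hv.hL i j (hne hj)))
            (map_Q' (hv.hQ i j (hne hj))) (map_Bq' (hv.hB i j (hne hj)))).symm
        · simp only [χ₀, ψ₀, dif_neg hj, mul_zero, map_zero, sub_zero]
          rw [show Ideal.Quotient.mkₐ R (Ideal.span (relSet v e₀ S)) (MvPolynomial.X (CVar.xi j)) = 0 from hq.h0 j hj, zero_mul]
      · by_cases hj : j ∈ S
        · simp only [χ₀, ψ₀, dif_pos hj]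
          rw [hs]
          exact (commute_3j hc (hq.h2 j hj) (hq.h3 j hj) (map_L' (hv.hL i j (hne hj)))
            (map_Q' (hv.hQ i j (hne hj))) (map_Bq' (hv.hB i j (hne hj)))).symm
        · simp only [χ₀, ψ₀, dif_neg hj, mul_zero, map_zero, sub_zero]
          rw [show Ideal.Quotient.mkₐ R (Ideal.span (relSet v e₀ S)) (MvPolynomial.X (CVar.xi j)) = 0 from hq.h0 j hj, zero_mul]
      · rcases eq_or_ne j k with rfl | hjk
        · rfl
        by_cases hj : j ∈ S <;> by_cases hk : k ∈ S
        · simp only [χ₀, ψ₀, dif_pos hj, dif_pos hk]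
          exact commute_jk (hq.h2 j hj) (hq.h3 j hj) (hq.h2 k hk) (hq.h3 k hk) (hq.hxy j hj k hk hjk)
            (map_L' (hv.hL i j (hne hj))) (map_L' (hv.hL i k (hne hk)))
            (map_T' (hv.hT i k j (hne hk) hjk.symm (hne hj))) (map_T' (hv.hT i j k (hne hj) hjk (hne hk)))
        · simp only [χ₀, ψ₀, dif_pos hj, dif_neg hk, mul_zero, map_zero, sub_zero]
          rw [show Ideal.Quotient.mkₐ R (Ideal.span (relSet v e₀ S)) (MvPolynomial.X (CVar.xi k)) = 0 from hq.h0 k hk, zero_mul]
        · simp only [χ₀, ψ₀, dif_neg hj, dif_pos hk, mul_zero, map_zero, sub_zero]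
          rw [show Ideal.Quotient.mkₐ R (Ideal.span (relSet v e₀ S)) (MvPolynomial.X (CVar.xi j)) = 0 from hq.h0 j hj, zero_mul]
        · simp only [χ₀, ψ₀, dif_neg hj, dif_neg hk, mul_zero])
    (fun ρ hρ => by
      rcases hρ with (((hρ | ⟨⟨j, hj⟩, rfl⟩) | ⟨⟨j, hj⟩, rfl⟩) | ⟨⟨⟨⟨j, k⟩, hjk⟩, hj, hk⟩, rfl⟩) | ⟨⟨j, hj⟩, rfl⟩
      · obtain rfl := hρ
        refine Eq.trans ?_ (point_cubic (a := v .a) (c := v .c) (d := v .cb - v .c) (u := v (.ci i)) (ub := v (.cbi i)))
        rw [he]
        simp [Ec, χ₀]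
      · refine Eq.trans ?_ (point_2j (hv.hL i j (hne hj)) (hv.hQ i j (hne hj)))
        simp [E2, χ₀, hj]
      · refine Eq.trans ?_ (point_3j (hv.hL i j (hne hj)) (hv.hQ i j (hne hj)) (hv.hB i j (hne hj)))
        simp [E3, χ₀, hj, s]
      · refine Eq.trans ?_ (point_jk (hv.hT j k i hjk (hne hk).symm (hne hj).symm))
        dsimp only at hj hk
        simp [Exy, χ₀, hj, hk]
      · simp [χ₀, hj])
    (fun Ψ hmul hX hΨC ρ hρ => by
      have hK : ∀ r, Ideal.Quotient.mkₐ R (Ideal.span (relSet v e₀ S)) (MvPolynomial.C r) = K r :=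
        fun r => (Ideal.Quotient.mkₐ R (Ideal.span (relSet v e₀ S))).commutes r
      have hsm : ∀ (r : R) (z : QS v e₀ S), r • z = K r * z := fun r z => Algebra.smul_def r z
      rcases hρ with (((hρ | ⟨⟨j, hj⟩, rfl⟩) | ⟨⟨j, hj⟩, rfl⟩) | ⟨⟨⟨⟨j, k⟩, hjk⟩, hj, hk⟩, rfl⟩) | ⟨⟨j, hj⟩, rfl⟩
      · obtain rfl := hρ
        simp only [Ec, map_sub, map_add, hmul, hX, hΨC, hK, map_mul, MvPolynomial.eval_X, MvPolynomial.eval_C,
          χ₀, ψ₀, hsm, hs, map_zero, mul_zero, zero_mul, add_zero, zero_add, sub_zero]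
        linear_combination (norm := (simp only [Ec, e, x2, x3, qx, s, K, map_sub]; ring)) x2 * hc
      · refine Eq.trans ?_ (vanish_2j (hq.h2 j hj) (map_L' (hv.hL i j (hne hj))) (map_Bq' (hv.hB i j (hne hj))))
        simp only [E2, map_sub, map_add, hmul, hX, hΨC, hK, map_mul, MvPolynomial.eval_X, MvPolynomial.eval_C,
          χ₀, ψ₀, dif_pos hj, hsm, hs, map_zero, mul_zero, zero_mul, add_zero, zero_add, sub_zero]
        simp only [x2, x3, qx, s, K, map_sub]
        ring
      · refine Eq.trans ?_ (vanish_3j hc (hq.h3 j hj) (map_L' (hv.hL i j (hne hj)))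
          (map_Q' (hv.hQ i j (hne hj))) (map_Bq' (hv.hB i j (hne hj))))
        simp only [E3, s, map_sub, map_add, hmul, hX, hΨC, hK, map_mul, MvPolynomial.eval_X, MvPolynomial.eval_C,
          χ₀, ψ₀, dif_pos hj, hsm, hs, map_zero, mul_zero, zero_mul, add_zero, zero_add, sub_zero]
        simp only [x2, x3, qx, s, K, map_sub, map_add]
        ring
      · dsimp only at hj hk
        refine Eq.trans ?_ (vanish_jk (u := K (v (.ci i))) (ub := K (v (.cbi i))) (hq.h2 j hj) (hq.h3 j hj)
          (hq.hxy j hj k hk hjk) (map_L' (hv.hL i k (hne hk))) (map_L' (hv.hL j k hjk))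
          (map_T' (hv.hT i k j (hne hk) (Ne.symm hjk) (hne hj))))
        simp only [Exy, map_sub, map_add, hmul, hX, hΨC, hK, map_mul, MvPolynomial.eval_X, MvPolynomial.eval_C,
          χ₀, ψ₀, dif_pos hj, dif_pos hk, hsm, hs, map_zero, mul_zero, zero_mul, add_zero, zero_add, sub_zero]
        simp only [x2, x3, qx, s, K, map_sub]
        ring
      · simp only [hX, ψ₀, dif_neg hj])
  let img : CVar m → C' := fun y => match y with
    | .x2 => ι x2
    | .x3 => ι x3
    | .xi j => if j = i then x else ι (qx v e₀ S (.xi j))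
  have hS := hq.map ι
  have hxj : ∀ j (hj : j ∈ S), ι (qx v e₀ S (.xi j)) * x = algebraMap R C' (v (.cij j i (hne hj).symm)) * x
      + (ι x2 * ι x3 + algebraMap R C' (v (.cij i j (hne hj))) * ι (qx v e₀ S (.xi j)) - algebraMap R C' (v .c)) :=
    fun j hj => (hx (.xi j)).trans (by
      simp only [χ₀, ψ₀, dif_pos hj, Algebra.smul_def, map_sub, map_add, map_mul, K, AlgHom.commutes])
  have hx2 : ι x2 * x = algebraMap R C' (v (.ci i)) * x
      + (ι x2 * ι x3 + algebraMap R C' (v (.cbi i)) * ι x2 - algebraMap R C' (v .c)) :=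
    (hx .x2).trans (by simp only [χ₀, ψ₀, Algebra.smul_def, map_sub, map_add, map_mul, K, AlgHom.commutes])
  have hx3 : ι x3 * x = algebraMap R C' (s (v .a) (v (.ci i)) (v (.cbi i))) * x
      + (ι x2 * ι x3 - algebraMap R C' (s (v .a) (v (.ci i)) (v (.cbi i))) * algebraMap R C' (v (.cbi i))
        + algebraMap R C' (v .cb - v .c)) :=
    (hx .x3).trans (by simp only [χ₀, ψ₀, Algebra.smul_def, map_sub, map_add, map_mul, K, AlgHom.commutes, s])
  have hsol : Sol v e₀ (insert i S) img := by
    refine ⟨hS.hc, fun j hj => ?_, fun j hj => ?_, fun j hj k hk h => ?_, fun j hj => ?_⟩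
    · by_cases hji : j = i
      · subst hji
        simp only [img, if_pos, E2]
        linear_combination hx2
      · simp only [img, if_neg hji]
        exact hS.h2 j ((Finset.mem_insert.1 hj).resolve_left hji)
    · by_cases hji : j = i
      · subst hji
        simp only [img, if_pos, E3, s, map_sub, map_add] at hx3 ⊢
        linear_combination hx3
      · simp only [img, if_neg hji]
        exact hS.h3 j ((Finset.mem_insert.1 hj).resolve_left hji)
    · by_cases hji : j = i
      · subst hji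
        simp only [img, if_pos, if_neg (Ne.symm h), Exy]
        linear_combination hxj k ((Finset.mem_insert.1 hk).resolve_left (Ne.symm h))
      · by_cases hki : k = i
        · subst hki
          simp only [img, if_pos, if_neg hji, Exy]
          linear_combination hxj j ((Finset.mem_insert.1 hj).resolve_left hji)
        · simp only [img, if_neg hji, if_neg hki]
          exact hS.hxy j ((Finset.mem_insert.1 hj).resolve_left hji) k ((Finset.mem_insert.1 hk).resolve_left hki) h
    · rw [Finset.mem_insert, not_or] at hj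
      simp only [img, if_neg hj.1]
      exact hS.h0 j hj.2
  refine indep_of_sol v e₀ _ hsol ?_
  have hok : ∀ {o : Option (ℕ ⊕ (CVar m × ℕ))}, Ok (insert i S) o → (∀ k, o ≠ some (Sum.inr (.xi i, k))) → Ok S o := by
    intro o ho hk
    rcases o with _ | (_ | ⟨_ | _ | j, k⟩) <;> try exact trivial
    refine (Finset.mem_insert.1 ho).resolve_left fun h => hk k ?_
    rw [h]
  let g : {o : Option (ℕ ⊕ (CVar m × ℕ)) // Ok (insert i S) o} → {o : Option (ℕ ⊕ (CVar m × ℕ)) // Ok S o} ⊕ ℕ :=
    fun o => if h : ∃ k, o.1 = some (Sum.inr (.xi i, k)) then Sum.inr h.choose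
      else Sum.inl ⟨o.1, hok o.2 fun k hk => h ⟨k, hk⟩⟩
  have hg : Function.Injective g := by
    intro o o' h
    simp only [g] at h
    split_ifs at h with h1 h2 h2
    · exact Subtype.ext (h1.choose_spec.trans ((Sum.inr_injective h) ▸ h2.choose_spec.symm))
    · exact Subtype.ext (by simpa using h)
  convert (hli _ ih).comp g hg using 1
  funext ⟨o, ho⟩
  by_cases h : ∃ k, o = some (Sum.inr (.xi i, k))
  · simp only [Function.comp_apply, g, dif_pos h, Sum.elim_inr]
    conv_lhs => rw [h.choose_spec]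
    simp [mon, img]
  · simp only [Function.comp_apply, g, dif_neg h, Sum.elim_inl, map_mon]
    rcases o with _ | (k | ⟨_ | _ | j, k⟩)
    · simp [mon]
    · simp [mon, img, x2, x3]
    · simp [mon, img, x2]
    · simp [mon, img, x3]
    · have hji : j ≠ i := fun hh => h ⟨k, by rw [hh]⟩
      simp [mon, img, hji]

theorem indep_univ {v : UGen m → R} (hv : Good v) (i₀ : Fin m) :
    Indep v (e (v .a) (v .c) (v .cb - v .c) (v (.ci i₀)) (v (.cbi i₀))) Finset.univ := by
  suffices ∀ S : Finset (Fin m), Indep v (e (v .a) (v .c) (v .cb - v .c) (v (.ci i₀)) (v (.cbi i₀))) S from this _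
  intro S
  induction S using Finset.induction_on with
  | empty => exact indep_empty v _
  | @insert i S hiS ih =>
    refine indep_insert hv hiS ?_ ih
    rcases eq_or_ne i i₀ with rfl | h
    · rfl
    · exact e_eq (hv.hL i i₀ h) (hv.hQ i i₀ h) (hv.hB i i₀ h)

end Groth.Agent.CurveBasis15
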