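import Groth.Agent.Lib.CurveBasis15.Main
import Groth.Prelude.Def_W4c5m1nsnscurvesI

/-!
# `O(U_{n+1})` is the coordinate ring of the universal curve over `U_n`
-/

set_option autoImplicit false

universe u

namespace Groth.Agent.CurveBasis15

open W4c5m1nsnscurves

theorem T_swap {B : Type*} [CommRing B] {a c d u ub v vb r rb pij pji pik pki pjk pkj : B}
    (h1 : L a u ub v vb pij pji = 0) (h2 : L a u ub r rb pik pki = 0) (h3 : L a v vb r rb pjk pkj = 0)
    (q1 : Q c u v pij pji = 0) (q2 : Q c u r pik pki = 0)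
    (b1 : Bq c d ub vb pij pji = 0) (b2 : Bq c d ub rb pik pki = 0)
    (hT : T a c r rb pij pji pjk pik = 0) : T a c v vb pik pki pkj pij = 0 := by
  linear_combination (norm := (simp only [L, Q, Bq, T, s]; ring))
    hT - ((pij - pik) * h3 + pik * h1 - pij * h2 + (b1 - ub * h1 - q1 + v * h1) - (b2 - ub * h2 - q2 + r * h2))

theorem T_symm {B : Type*} [CommRing B] {a c r rb pij pji pjk pik : B}
    (hT : T a c r rb pij pji pjk pik = 0) : T a c r rb pji pij pik pjk = 0 := by
  linear_combination (norm := (simp only [T]; ring)) hT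

variable (R : Type u) [CommRing R] (m : ℕ)

theorem good_ugen : Good (ugen R m) := by
  refine (good_iff (R := URing R m) (m := m) (ugen R m)).2 fun p hp => ?_
  have key : ∀ q : MvPolynomial (UGen m) R, MvPolynomial.eval (ugen R m)
      (MvPolynomial.map (algebraMap R (URing R m)) q) = Ideal.Quotient.mkₐ R (Ideal.span (URel R m)) q := fun q => by
    rw [MvPolynomial.eval_map, ← MvPolynomial.aeval_def]
    exact (MvPolynomial.aeval_unique (Ideal.Quotient.mkₐ R (Ideal.span (URel R m))) ▸ rfl)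
  have hz : ∀ q ∈ URel R m, Ideal.Quotient.mkₐ R (Ideal.span (URel R m)) q = 0 := fun q hq =>
    Ideal.Quotient.eq_zero_iff_mem.2 (Ideal.subset_span hq)
  rcases hp with ((⟨q, rfl⟩ | ⟨q, rfl⟩) | ⟨q, rfl⟩) | ⟨q, rfl⟩
  · refine Eq.trans ?_ ((key _).trans (hz _ (Or.inl (Or.inl (Or.inl ⟨q, rfl⟩))))); simp
  · refine Eq.trans ?_ ((key _).trans (hz _ (Or.inl (Or.inl (Or.inr ⟨q, rfl⟩))))); simp
  · refine Eq.trans ?_ ((key _).trans (hz _ (Or.inl (Or.inr ⟨q, rfl⟩)))); simp
  · refine Eq.trans ?_ ((key _).trans (hz _ (Or.inr ⟨q, rfl⟩))); simp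

theorem exists_succ_equiv (hm : 1 ≤ m) :
    ∃ e : CurveAlg (URing R m) m (ugen R m) ≃+* URing R (m + 1),
      (∀ r : URing R m, e (algebraMap (URing R m) (CurveAlg (URing R m) m (ugen R m)) r) = uincl R m r) ∧
      e (Ideal.Quotient.mk (Ideal.span (CRel (URing R m) m (ugen R m))) (MvPolynomial.X CVar.x2)) =
        ugen R (m + 1) (UGen.ci (Fin.last m)) ∧
      e (Ideal.Quotient.mk (Ideal.span (CRel (URing R m) m (ugen R m))) (MvPolynomial.X CVar.x3)) =
        ugen R (m + 1) UGen.a + ugen R (m + 1) (UGen.ci (Fin.last m)) + ugen R (m + 1) (UGen.cbi (Fin.last m)) ∧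
      ∀ i : Fin m, e (Ideal.Quotient.mk (Ideal.span (CRel (URing R m) m (ugen R m))) (MvPolynomial.X (CVar.xi i))) =
        ugen R (m + 1) (UGen.cij i.castSucc (Fin.last m) (Fin.castSucc_lt_last i).ne) := by
  have hg := good_ugen R (m + 1)
  let w := ugen R (m + 1)
  let l := Fin.last m
  have hne : ∀ i : Fin m, i.castSucc ≠ l := fun i => (Fin.castSucc_lt_last i).ne
  have hincl : ∀ g, uincl R m (ugen R m g) = w g.castSucc := fun g => by
    change Ideal.Quotient.mkₐ R _ (MvPolynomial.rename UGen.castSucc (MvPolynomial.X g)) = _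
    rw [MvPolynomial.rename_X]; rfl
  let img : CVar m → URing R (m + 1) := fun y => match y with
    | .x2 => w (.ci l)
    | .x3 => s (w .a) (w (.ci l)) (w (.cbi l))
    | .xi i => w (.cij i.castSucc l (hne i))
  let φ : MvPolynomial (CVar m) (URing R m) →+* URing R (m + 1) :=
    MvPolynomial.eval₂Hom (uincl R m).toRingHom img
  have hφ : ∀ p ∈ Ideal.span (CRel (URing R m) m (ugen R m)), φ p = 0 := by
    intro p hp
    rw [← RingHom.mem_ker]
    refine (Ideal.span_le.2 ?_ : Ideal.span (CRel (URing R m) m (ugen R m)) ≤ _) hp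
    rintro p ((⟨i, rfl⟩ | ⟨i, rfl⟩) | ⟨⟨⟨i, j⟩, hij⟩, rfl⟩)
    · refine Eq.trans ?_ (point_2j (hg.hL l i.castSucc (hne i).symm) (hg.hQ l i.castSucc (hne i).symm))
      simp [φ, img, E2, hincl, w, UGen.castSucc]
    · refine Eq.trans ?_ (point_3j (hg.hL l i.castSucc (hne i).symm) (hg.hQ l i.castSucc (hne i).symm)
        (hg.hB l i.castSucc (hne i).symm))
      simp [φ, img, E3, s, hincl, w, UGen.castSucc]
      ring
    · refine Eq.trans ?_ (point_jk (hg.hT i.castSucc j.castSucc l (fun h => hij (Fin.castSucc_injective m h)) (hne j) (hne i)))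
      simp [φ, img, Exy, hincl, w, UGen.castSucc]
  let f : CurveAlg (URing R m) m (ugen R m) →+* URing R (m + 1) := Ideal.Quotient.lift _ φ hφ
  -- the inverse
  let B := CurveAlg (URing R m) m (ugen R m)
  let K : URing R m →+* B := algebraMap (URing R m) B
  let π : MvPolynomial (CVar m) (URing R m) →ₐ[URing R m] B := Ideal.Quotient.mkₐ (URing R m) _
  let x : CVar m → B := fun y => π (MvPolynomial.X y)
  have hsol := sol_curveAlg (ugen R m) (⟨0, hm⟩ : Fin m)
  let A := K (ugen R m .a)
  let P : Fin (m + 1) → B := Fin.lastCases (x .x2) fun i => K (ugen R m (.ci i))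
  let Pb : Fin (m + 1) → B := Fin.lastCases (x .x3 - A - x .x2) fun i => K (ugen R m (.cbi i))
  let pij : ∀ i j : Fin (m + 1), i ≠ j → B := fun i => Fin.lastCases
    (fun j => Fin.lastCases (fun h => absurd rfl h)
      (fun j' _ => A + x .x2 + (x .x3 - A - x .x2) + K (ugen R m (.ci j')) + K (ugen R m (.cbi j')) - x (.xi j')) j)
    (fun i' j => Fin.lastCases (fun _ => x (.xi i'))
      (fun j' h => K (ugen R m (.cij i' j' fun h' => h (h' ▸ rfl)))) j) i
  let u : UGen (m + 1) → B := fun g => match g with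
    | .a => A
    | .c => K (ugen R m .c)
    | .cb => K (ugen R m .cb)
    | .ci i => P i
    | .cbi i => Pb i
    | .cij i j h => pij i j h
  have ho := good_ugen R m
  have hL0 : ∀ i j (h : i ≠ j), L (u .a) (u (.ci i)) (u (.cbi i)) (u (.ci j)) (u (.cbi j))
      (u (.cij i j h)) (u (.cij j i h.symm)) = 0 := by
    intro i j h
    rcases Fin.eq_castSucc_or_eq_last i with ⟨i', rfl⟩ | rfl <;> rcases Fin.eq_castSucc_or_eq_last j with ⟨j', rfl⟩ | rfl
    · simp only [u, P, Pb, pij, Fin.lastCases_castSucc]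
      exact map_L' (ho.hL i' j' _)
    · simp only [u, P, Pb, pij, Fin.lastCases_castSucc, Fin.lastCases_last, L]
      ring
    · simp only [u, P, Pb, pij, Fin.lastCases_castSucc, Fin.lastCases_last, L]
      ring
    · exact absurd rfl h
  have hQB : ∀ i j (h : i ≠ j), Q (u .c) (u (.ci i)) (u (.ci j)) (u (.cij i j h)) (u (.cij j i h.symm)) = 0 ∧
      Bq (u .c) (u .cb - u .c) (u (.cbi i)) (u (.cbi j)) (u (.cij i j h)) (u (.cij j i h.symm)) = 0 := by
    have side : ∀ i : Fin m, Q (u .c) (x .x2) (K (ugen R m (.ci i)))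
        (u (.cij l i.castSucc (hne i).symm)) (x (.xi i)) = 0 ∧
      Bq (u .c) (u .cb - u .c) (x .x3 - A - x .x2) (K (ugen R m (.cbi i)))
        (u (.cij l i.castSucc (hne i).symm)) (x (.xi i)) = 0 := fun i => by
      have h2 := hsol.h2 i (Finset.mem_univ i)
      have h3 := hsol.h3 i (Finset.mem_univ i)
      simp only [u, pij, l, Fin.lastCases_castSucc, Fin.lastCases_last]
      constructor
      · linear_combination (norm := (simp only [E2, Q, s, A, K, x, π]; ring)) (-1 : B) * h2
      · linear_combination (norm := (simp only [E2, E3, Bq, s, A, K, x, π, map_sub]; ring)) h3 - h2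
    intro i j h
    rcases Fin.eq_castSucc_or_eq_last i with ⟨i', rfl⟩ | rfl <;> rcases Fin.eq_castSucc_or_eq_last j with ⟨j', rfl⟩ | rfl
    · simp only [u, P, Pb, pij, Fin.lastCases_castSucc, ← map_sub]
      exact ⟨map_Q' (ho.hQ i' j' _), map_Bq' (ho.hB i' j' _)⟩
    · obtain ⟨hq, hb⟩ := side i'
      simp only [u, P, Pb, pij, l, Fin.lastCases_castSucc, Fin.lastCases_last] at hq hb ⊢
      exact ⟨by linear_combination (norm := (simp only [Q]; ring)) hq,
        by linear_combination (norm := (simp only [Bq]; ring)) hb⟩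
    · obtain ⟨hq, hb⟩ := side j'
      simp only [u, P, Pb, pij, l, Fin.lastCases_castSucc, Fin.lastCases_last] at hq hb ⊢
      exact ⟨hq, hb⟩
    · exact absurd rfl h
  have htop : ∀ j k : Fin m, ∀ hjk : j ≠ k, T (u .a) (u .c) (u (.ci l)) (u (.cbi l))
      (u (.cij j.castSucc k.castSucc fun h => hjk (Fin.castSucc_injective m h)))
      (u (.cij k.castSucc j.castSucc fun h => hjk (Fin.castSucc_injective m h).symm))
      (u (.cij k.castSucc l (hne k))) (u (.cij j.castSucc l (hne j))) = 0 := fun j k hjk => by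
    have h := hsol.hxy j (Finset.mem_univ j) k (Finset.mem_univ k) hjk
    simp only [u, P, Pb, pij, l, Fin.lastCases_castSucc, Fin.lastCases_last]
    linear_combination (norm := (simp only [Exy, T, s, A, K, x, π]; ring)) (-1 : B) * h
  have hT0 : ∀ i j k (hij : i ≠ j) (hjk : j ≠ k) (hik : i ≠ k), T (u .a) (u .c) (u (.ci k)) (u (.cbi k))
      (u (.cij i j hij)) (u (.cij j i hij.symm)) (u (.cij j k hjk)) (u (.cij i k hik)) = 0 := by
    intro i j k hij hjk hik
    rcases Fin.eq_castSucc_or_eq_last k with ⟨k', rfl⟩ | rfl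
    · rcases Fin.eq_castSucc_or_eq_last j with ⟨j', rfl⟩ | rfl
      · rcases Fin.eq_castSucc_or_eq_last i with ⟨i', rfl⟩ | rfl
        · simp only [u, P, Pb, pij, Fin.lastCases_castSucc]
          exact map_T' (ho.hT i' j' k' _ _ _)
        · exact T_symm (T_swap (hL0 _ _ hjk) (hL0 _ _ hij.symm) (hL0 _ _ hik.symm) (hQB _ _ hjk).1 (hQB _ _ hij.symm).1
            (hQB _ _ hjk).2 (hQB _ _ hij.symm).2 (htop j' k' fun h => hjk (h ▸ rfl)))
      · rcases Fin.eq_castSucc_or_eq_last i with ⟨i', rfl⟩ | rfl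
        · exact T_swap (hL0 _ _ hik) (hL0 _ _ hij) (hL0 _ _ hjk.symm) (hQB _ _ hik).1 (hQB _ _ hij).1
            (hQB _ _ hik).2 (hQB _ _ hij).2 (htop i' k' fun h => hik (h ▸ rfl))
        · exact absurd rfl hij
    · rcases Fin.eq_castSucc_or_eq_last j with ⟨j', rfl⟩ | rfl
      · rcases Fin.eq_castSucc_or_eq_last i with ⟨i', rfl⟩ | rfl
        · exact htop i' j' fun h => hij (h ▸ rfl)
        · exact absurd rfl hik
      · exact absurd rfl hjk
  have hu : Good u := ⟨hL0, fun i j h => (hQB i j h).1, fun i j h => (hQB i j h).2, hT0⟩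
  let ψ : MvPolynomial (UGen (m + 1)) R →+* B :=
    MvPolynomial.eval₂Hom (K.comp (algebraMap R (URing R m))) u
  have hψ : ∀ p ∈ Ideal.span (URel R (m + 1)), ψ p = 0 := by
    intro p hp
    rw [← RingHom.mem_ker]
    refine (Ideal.span_le.2 fun q hq => ?_ : Ideal.span (URel R (m + 1)) ≤ _) hp
    have hz := (good_iff (R := B) u).1 hu
    rcases hq with ((⟨q, rfl⟩ | ⟨q, rfl⟩) | ⟨q, rfl⟩) | ⟨q, rfl⟩
    · refine Eq.trans ?_ (hz _ (Or.inl (Or.inl (Or.inl ⟨q, rfl⟩)))); simp [ψ]
    · refine Eq.trans ?_ (hz _ (Or.inl (Or.inl (Or.inr ⟨q, rfl⟩)))); simp [ψ]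
    · refine Eq.trans ?_ (hz _ (Or.inl (Or.inr ⟨q, rfl⟩))); simp [ψ]
    · refine Eq.trans ?_ (hz _ (Or.inr ⟨q, rfl⟩)); simp [ψ]
  let g : URing R (m + 1) →+* B := Ideal.Quotient.lift _ ψ hψ
  have gw : ∀ h, g (w h) = u h := fun h => MvPolynomial.eval₂Hom_X' _ _ _
  have fx : ∀ y, f (x y) = img y := fun y => MvPolynomial.eval₂Hom_X' _ _ _
  have fK : ∀ r, f (K r) = uincl R m r := fun r => MvPolynomial.eval₂Hom_C _ _ _
  have hwC : ∀ r, uincl R m (algebraMap R (URing R m) r) = algebraMap R _ r := (uincl R m).commutes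
  have hfg : f.comp g = RingHom.id _ := by
    refine Ideal.Quotient.ringHom_ext (MvPolynomial.ringHom_ext (fun r => ?_) fun h => ?_)
    · change f (ψ (MvPolynomial.C r)) = _
      rw [MvPolynomial.eval₂Hom_C, RingHom.comp_apply, fK, hwC]
      rfl
    · change f (g (w h)) = w h
      rw [gw]
      cases h with
      | a => exact (fK _).trans (hincl .a)
      | c => exact (fK _).trans (hincl .c)
      | cb => exact (fK _).trans (hincl .cb)
      | ci i =>
        rcases Fin.eq_castSucc_or_eq_last i with ⟨i', rfl⟩ | rfl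
        · simp only [u, P, Fin.lastCases_castSucc, fK, hincl]; rfl
        · simp only [u, P, Fin.lastCases_last, fx]; rfl
      | cbi i =>
        rcases Fin.eq_castSucc_or_eq_last i with ⟨i', rfl⟩ | rfl
        · simp only [u, Pb, Fin.lastCases_castSucc, fK, hincl]; rfl
        · simp only [u, Pb, A, Fin.lastCases_last, map_sub, fx, fK, hincl, img, s, UGen.castSucc, l]
          ring
      | cij i j hij =>
        rcases Fin.eq_castSucc_or_eq_last i with ⟨i', rfl⟩ | rfl <;>
          rcases Fin.eq_castSucc_or_eq_last j with ⟨j', rfl⟩ | rfl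
        · simp only [u, pij, Fin.lastCases_castSucc, fK, hincl]; rfl
        · simp only [u, pij, Fin.lastCases_castSucc, Fin.lastCases_last, fx]; rfl
        · simp only [u, pij, A, Fin.lastCases_castSucc, Fin.lastCases_last, map_sub, map_add, fx, fK, hincl, img, s,
            UGen.castSucc, l]
          linear_combination (norm := (simp only [L, w]; ring))
            (-1 : URing R (m + 1)) * hg.hL (Fin.last m) j'.castSucc hij
        · exact absurd rfl hij
  have hgf : g.comp f = RingHom.id _ := by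
    refine Ideal.Quotient.ringHom_ext (MvPolynomial.ringHom_ext (fun r => ?_) fun y => ?_)
    · change g (f (K r)) = K r
      rw [fK]
      have : (g.comp (uincl R m).toRingHom) = K := by
        refine Ideal.Quotient.ringHom_ext (MvPolynomial.ringHom_ext (fun r => ?_) fun h => ?_)
        · change g (uincl R m (algebraMap R _ r)) = K (algebraMap R _ r)
          rw [hwC]
          change ψ (MvPolynomial.C r) = _
          exact MvPolynomial.eval₂Hom_C _ _ _
        · change g (uincl R m (ugen R m h)) = K (ugen R m h)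
          rw [hincl, gw]
          cases h <;> simp [u, P, Pb, pij, A, UGen.castSucc, Fin.lastCases_castSucc]
      exact RingHom.congr_fun this r
    · change g (f (x y)) = x y
      rw [fx]
      rcases y with _ | _ | i
      · simp only [img, gw, u, P, l, Fin.lastCases_last]
      · simp only [img, s, map_add, gw, u, P, Pb, l, Fin.lastCases_last]
        ring
      · simp only [img, gw, u, pij, l, Fin.lastCases_castSucc, Fin.lastCases_last]
  refine ⟨RingEquiv.ofRingHom f g hfg hgf, fK, fx .x2, fx .x3, fun i => fx (.xi i)⟩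

end Groth.Agent.CurveBasis15
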